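import Cfsg.Agent.Fg24.HalfDeg.Basic
import Cfsg.Agent.Fg24.SmallDeg.Line
import Cfsg.Agent.Char.FeitThompsonIneq
import Cfsg.Agent.BlockThms.AbelianTI.SmallDegree

/-!
# The centralizer of `P` is `P` times the centre
-/

set_option autoImplicit false
set_option linter.unusedSectionVars false

open Cfsg
open scoped ComplexConjugate Classical

namespace Cfsg.Agent.Fg24.HalfDeg

open Cfsg.Agent.BlockThms.OrderP

universe u

variable {G : Type u} [Group G] [Fintype G]

/-- The central character. -/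
noncomputable def cchar (χ : IrrCharacter G) (k : G) : ℂ := (χ : G → ℂ) k / (χ : G → ℂ) 1

theorem cchar_apply (χ : IrrCharacter G) {k : G} (hk : k ∈ Subgroup.center G) (g : G) :
    (χ : G → ℂ) (g * k) = cchar χ k * (χ : G → ℂ) g := by
  have h := BlockThms.AbelianTI.apply_mul_central χ.2
    (fun a => by rw [Subgroup.mem_center_iff.1 hk a, mul_inv_cancel_right]) g
  rw [← Subgroup.mem_center_iff.1 hk g] at h
  have h1 := Char.IsIrr.one_ne_zero χ.2
  rw [cchar]
  field_simp
  linear_combination h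

theorem cchar_one (χ : IrrCharacter G) : cchar χ 1 = 1 := div_self (Char.IsIrr.one_ne_zero χ.2)

theorem cchar_mul (χ : IrrCharacter G) {k l : G} (hk : k ∈ Subgroup.center G)
    (hl : l ∈ Subgroup.center G) : cchar χ (k * l) = cchar χ k * cchar χ l := by
  rw [cchar, cchar_apply χ hl k, cchar, cchar]
  field_simp

theorem cchar_norm (χ : IrrCharacter G) {k : G} (hk : k ∈ Subgroup.center G) :
    ‖cchar χ k‖ = 1 := by
  obtain ⟨a, ha, hval⟩ := Char.exists_scalar_of_center χ.2 hk
  have h := hval 1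
  rw [mul_one] at h
  rw [cchar, h, mul_div_cancel_right₀ _ (Char.IsIrr.one_ne_zero χ.2)]
  exact ha

theorem cchar_mul_conj (χ : IrrCharacter G) {k : G} (hk : k ∈ Subgroup.center G) :
    cchar χ k * conj (cchar χ k) = 1 := by
  rw [Char.mul_conj_eq_norm_sq, cchar_norm χ hk, one_pow, Complex.ofReal_one]

variable {p : ℕ} [Fact p.Prime] {P : Sylow p G}

/-- The local structure: `C(P) = P × Z(G)`. -/
structure Loc (P : Sylow p G) (e : ℕ) where
  setup : Setup P e
  x : G
  x_mem : x ∈ (P : Subgroup G)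
  x_ord : orderOf x = p
  U : Finset (ZMod p)
  unit : UnitSet U
  U_card : U.card = e
  conj_U : ∀ n ∈ Subgroup.normalizer (P : Set G), ∃ v ∈ U, ∀ t : ZMod p,
    n * pw x t * n⁻¹ = pw x (v * t)
  U_conj : ∀ v ∈ U, ∀ t : ZMod p, ∃ c : G, c * pw x t * c⁻¹ = pw x (v * t)
  center_reg : ¬ p ∣ Nat.card (Subgroup.center G)
  dec : ∀ c ∈ Subgroup.centralizer (P : Set G),
    ∃ t : ZMod p, ∃ k ∈ Subgroup.center G, c = pw x t * k

namespace Loc

variable {e : ℕ} (L : Loc P e)
include L

theorem p_ne : (p : ℂ) ≠ 0 := Nat.cast_ne_zero.2 (Fact.out : p.Prime).ne_zero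

theorem pw_mem (t : ZMod p) : pw L.x t ∈ (P : Subgroup G) := pow_mem L.x_mem _

theorem pw_zero : pw L.x (0 : ZMod p) = 1 := by simp [pw]

theorem pw_one : pw L.x (1 : ZMod p) = L.x := by
  rw [← Nat.cast_one, pw_natCast L.x_ord, pow_one]

theorem pw_ne {t : ZMod p} (ht : t ≠ 0) : pw L.x t ≠ 1 := fun h =>
  ht (pw_injective L.x_ord (h.trans L.pw_zero.symm))

theorem pw_inv (t : ZMod p) : (pw L.x t)⁻¹ = pw L.x (-t) := by
  refine (eq_inv_of_mul_eq_one_left ?_).symm
  rw [← pw_add L.x_ord, neg_add_cancel, L.pw_zero]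

theorem pw_memC (t : ZMod p) : pw L.x t ∈ Subgroup.centralizer (P : Set G) :=
  L.setup.le_centralizer (L.pw_mem t)

theorem center_regular {k : G} (hk : k ∈ Subgroup.center G) : ¬ p ∣ orderOf k :=
  fun h => L.center_reg (h.trans (Subgroup.orderOf_dvd_natCard _ hk))

theorem parts {t : ZMod p} {k : G} (hk : k ∈ Subgroup.center G) :
    Blocks.pPartOf p (pw L.x t * k) = pw L.x t :=
  (Blocks.parts_mul (Fact.out : p.Prime) (Subgroup.mem_center_iff.1 hk (pw L.x t))
    (exists_orderOf_pow (L.pw_mem t)) (L.center_regular hk)).1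

theorem singular {t : ZMod p} (ht : t ≠ 0) {k : G} (hk : k ∈ Subgroup.center G) :
    p ∣ orderOf (pw L.x t * k) :=
  by_contra fun hd => L.pw_ne ht
    (L.parts hk ▸ (Blocks.pPartOf_eq_one_iff (Fact.out : p.Prime) _).2 hd)

theorem dec_inj {t t' : ZMod p} {k k' : G} (hk : k ∈ Subgroup.center G)
    (hk' : k' ∈ Subgroup.center G) (h : pw L.x t * k = pw L.x t' * k') : t = t' ∧ k = k' := by
  have h1 : pw L.x t = pw L.x t' := by rw [← L.parts (t := t) hk, h, L.parts hk']
  exact ⟨pw_injective L.x_ord h1, mul_left_cancel (h1 ▸ h)⟩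

theorem card_C : Nat.card (Subgroup.centralizer (P : Set G)) =
    p * Nat.card (Subgroup.center G) := by
  have e : ZMod p × Subgroup.center G ≃ Subgroup.centralizer (P : Set G) :=
    Equiv.ofBijective (fun z => ⟨pw L.x z.1 * z.2,
      mul_mem (L.pw_memC z.1) (Subgroup.center_le_centralizer _ z.2.2)⟩)
      ⟨fun z w h => by
        obtain ⟨h1, h2⟩ := L.dec_inj z.2.2 w.2.2 (congrArg Subtype.val h)
        exact Prod.ext h1 (Subtype.ext h2), fun c => by
        obtain ⟨t, k, hk, h⟩ := L.dec c c.2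
        exact ⟨(t, ⟨k, hk⟩), Subtype.ext h.symm⟩⟩
  rw [← Nat.card_congr e, Nat.card_prod, Nat.card_zmod]

theorem isConj_iff' {t : ZMod p} (ht : t ≠ 0) (s : ZMod p) {k k' : G}
    (hk : k ∈ Subgroup.center G) (hk' : k' ∈ Subgroup.center G) :
    IsConj (pw L.x t * k) (pw L.x s * k') ↔ k = k' ∧ ∃ v ∈ L.U, s = v * t := by
  constructor
  · intro h
    obtain ⟨g, hg⟩ := isConj_iff.1 h
    have hg1 : g * pw L.x t * g⁻¹ = pw L.x s := by
      rw [← L.parts (t := t) hk, ← Blocks.pPartOf_conj (p := p), hg, L.parts hk']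
    have hgN : g ∈ Subgroup.normalizer (P : Set G) := by
      have h1 : g⁻¹⁻¹ * pw L.x t * g⁻¹ ∈ (P : Subgroup G) := by
        rw [inv_inv, hg1]; exact L.pw_mem s
      exact inv_mem_iff.1 (L.setup.mem_normalizer (L.pw_mem t) (L.pw_ne ht) h1)
    obtain ⟨v, hv, hvt⟩ := L.conj_U g hgN
    have hs : s = v * t := pw_injective L.x_ord (hg1.symm.trans (hvt t))
    refine ⟨?_, v, hv, hs⟩
    have h2 : g * (pw L.x t * k) * g⁻¹ = pw L.x s * k := by
      rw [← mul_assoc, mul_assoc (g * pw L.x t), ← Subgroup.mem_center_iff.1 hk g⁻¹, ← mul_assoc,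
        hg1]
    exact mul_left_cancel (h2.symm.trans hg)
  · rintro ⟨rfl, v, hv, rfl⟩
    obtain ⟨c, hc⟩ := L.U_conj v hv t
    refine isConj_iff.2 ⟨c, ?_⟩
    rw [← mul_assoc, mul_assoc (c * pw L.x t), ← Subgroup.mem_center_iff.1 hk c⁻¹, ← mul_assoc, hc]

theorem card_centralizer {t : ZMod p} (ht : t ≠ 0) {k : G} (hk : k ∈ Subgroup.center G) :
    Nat.card (Subgroup.centralizer ({pw L.x t * k} : Set G)) =
      p * Nat.card (Subgroup.center G) := by
  rw [← L.card_C]
  congr 1
  have : Subgroup.centralizer ({pw L.x t * k} : Set G) = Subgroup.centralizer (P : Set G) := by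
    rw [← L.setup.centralizer_eq (L.pw_mem t) (L.pw_ne ht)]
    ext g
    rw [Subgroup.mem_centralizer_singleton_iff, Subgroup.mem_centralizer_singleton_iff,
      ← mul_assoc, mul_assoc (pw L.x t) k g, ← Subgroup.mem_center_iff.1 hk g, ← mul_assoc]
    exact ⟨mul_right_cancel, fun h => by rw [h]⟩
  rw [this]

theorem sum_fiber (φ : G → ℂ) {t : ZMod p} (ht : t ≠ 0) :
    ∑ g ∈ fiber p (pw L.x t), φ g = ∑ k : Subgroup.center G, φ (pw L.x t * k) := by
  have hp : p.Prime := Fact.out
  refine (Finset.sum_bij (fun (k : Subgroup.center G) _ => pw L.x t * (k : G))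
    (fun k _ => mem_fiber.2 (L.parts k.2)) (fun k _ k' _ h => Subtype.ext (mul_left_cancel h))
    (fun g hg => ?_) fun k _ => rfl).symm
  have hg' := mem_fiber.1 hg
  have hgC : g ∈ Subgroup.centralizer (P : Set G) := by
    rw [← L.setup.centralizer_eq (L.pw_mem t) (L.pw_ne ht),
      Subgroup.mem_centralizer_singleton_iff, ← hg']
    exact ((Commute.refl g).pow_right _).eq
  obtain ⟨s, k, hk, rfl⟩ := L.dec g hgC
  rw [L.parts hk] at hg'
  exact ⟨⟨k, hk⟩, Finset.mem_univ _, by rw [hg']⟩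

/-- Sums of functions vanishing on regular elements. -/
theorem sum_singular {φ : G → ℂ} (hφ : IsClassFunction G φ)
    (h0 : ∀ g, ¬ p ∣ orderOf g → φ g = 0) :
    (e : ℂ) * (p : ℂ) * (Nat.card (Subgroup.center G) : ℂ) * ∑ g, φ g =
      (Nat.card G : ℂ) * ∑ t : ZMod p, ∑ k : Subgroup.center G, φ (pw L.x t * k) := by
  have hp : p.Prime := Fact.out
  set I : G → ℂ := fun g => if g = 1 then 0 else 1 with hI
  have hA : Adm P I := ⟨if_pos rfl, fun c _ w _ => by simp only [hI, conj_eq_one_iff]⟩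
  have h1 := L.setup.sum_lift hA hφ
  have hl : ∀ g, lift P I g * φ g = φ g := by
    intro g
    by_cases h : p ∣ orderOf g
    · obtain ⟨c, hc⟩ := exists_conj_mem P (Blocks.orderOf_pPartOf hp g)
      rw [L.setup.lift_apply hA hc (isConj_iff.2 ⟨c, rfl⟩)]
      simp only [hI]
      rw [if_neg fun h1 => ?_, one_mul]
      rw [conj_eq_one_iff, Blocks.pPartOf_eq_one_iff hp] at h1
      exact h1 h
    · rw [h0 g h, mul_zero]
  rw [Finset.sum_congr rfl fun g _ => hl g] at h1
  have hKne : (Nat.card (Subgroup.center G) : ℂ) ≠ 0 := Nat.cast_ne_zero.2 Nat.card_pos.ne'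
  have h2 : (Nat.card (Subgroup.center G) : ℂ) * ∑ w : (P : Subgroup G), I w * avg p φ w =
      ∑ t : ZMod p, ∑ k : Subgroup.center G, φ (pw L.x t * k) := by
    rw [Finset.mul_sum]
    symm
    refine Fintype.sum_bijective (fun t => (⟨pw L.x t, L.pw_mem t⟩ : (P : Subgroup G)))
      ⟨fun t t' h => pw_injective L.x_ord (congrArg Subtype.val h), fun w => by
        obtain ⟨t, ht⟩ := L.setup.exists_pw L.x_mem L.x_ord w.2
        exact ⟨t, Subtype.ext ht⟩⟩ _ _ fun t => ?_
    by_cases ht : t = 0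
    · subst ht
      simp only [L.pw_zero, hI, if_true, zero_mul, mul_zero]
      exact Finset.sum_eq_zero fun k _ => by rw [one_mul, h0 _ (L.center_regular k.2)]
    · simp only [hI, if_neg (L.pw_ne ht), one_mul]
      have hf : ((fiber p (pw L.x t)).card : ℂ) = (Nat.card (Subgroup.center G) : ℂ) := by
        have h := L.setup.card_fiber (L.pw_mem t) (L.pw_ne ht)
        rw [L.setup.centralizer_eq (L.pw_mem t) (L.pw_ne ht), L.card_C, mul_comm p] at h
        rw [Nat.eq_of_mul_eq_mul_right hp.pos h]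
      rw [avg, hf, mul_inv_cancel_left₀ hKne, L.sum_fiber φ ht]
  rw [← h2]
  push_cast at h1
  linear_combination (Nat.card (Subgroup.center G) : ℂ) * h1

theorem classInner_singular {φ ψ : G → ℂ} (hφ : IsClassFunction G φ) (hψ : IsClassFunction G ψ)
    (h0 : ∀ g, ¬ p ∣ orderOf g → φ g = 0 ∨ ψ g = 0) :
    (e : ℂ) * (p : ℂ) * (Nat.card (Subgroup.center G) : ℂ) * classInner φ ψ =
      ∑ t : ZMod p, ∑ k : Subgroup.center G, φ (pw L.x t * k) * conj (ψ (pw L.x t * k)) := by
  have h := L.sum_singular (φ := fun g => φ g * conj (ψ g))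
    (fun g k => by simp only [hφ g k, hψ g k]) (fun g hg => by
      rcases h0 g hg with h | h <;> simp [h])
  rw [classInner, mul_left_comm, h, inv_mul_cancel_left₀ Char.card_ne_zero]

theorem card_G : Nat.card G =
    Nat.card (Sylow p G) * e * p * Nat.card (Subgroup.center G) := by
  rw [P.card_eq_index_normalizer, ← Subgroup.card_mul_index (Subgroup.normalizer (P : Set G)),
    L.setup.card_normalizer, L.card_C]
  ring

/-- Splitting a sum into the regular and the singular part. -/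
theorem sum_split {φ : G → ℂ} (hφ : IsClassFunction G φ) :
    ∑ g, φ g = ∑ g ∈ Finset.univ.filter (fun g : G => ¬ p ∣ orderOf g), φ g +
      (Nat.card (Sylow p G) : ℂ) *
        ∑ t ∈ (Finset.univ : Finset (ZMod p)).erase 0, ∑ k : Subgroup.center G,
          φ (pw L.x t * k) := by
  have hcls : IsClassFunction G (fun g => if p ∣ orderOf g then φ g else 0) := fun g k => by
    simp only [Blocks.orderOf_conj', hφ g k]
  have h := L.sum_singular hcls fun g hg => if_neg hg
  have hne : (e : ℂ) * (p : ℂ) * (Nat.card (Subgroup.center G) : ℂ) ≠ 0 :=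
    mul_ne_zero (mul_ne_zero (Nat.cast_ne_zero.2 L.setup.e_pos.ne') L.p_ne)
      (Nat.cast_ne_zero.2 Nat.card_pos.ne')
  have hsum : ∑ t : ZMod p, ∑ k : Subgroup.center G,
      (if p ∣ orderOf (pw L.x t * k) then φ (pw L.x t * k) else 0) =
      ∑ t ∈ (Finset.univ : Finset (ZMod p)).erase 0, ∑ k : Subgroup.center G,
        φ (pw L.x t * k) := by
    rw [← Finset.add_sum_erase _ _ (Finset.mem_univ (0 : ZMod p)),
      Finset.sum_eq_zero (fun k _ => by rw [L.pw_zero, one_mul, if_neg (L.center_regular k.2)]),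
      zero_add]
    exact Finset.sum_congr rfl fun t ht => Finset.sum_congr rfl fun k _ =>
      if_pos (L.singular (Finset.ne_of_mem_erase ht) k.2)
  rw [hsum, L.card_G] at h
  have h2 : ∑ g, (if p ∣ orderOf g then φ g else 0) = (Nat.card (Sylow p G) : ℂ) *
      ∑ t ∈ (Finset.univ : Finset (ZMod p)).erase 0, ∑ k : Subgroup.center G,
        φ (pw L.x t * k) := by
    refine mul_left_cancel₀ hne ?_
    rw [h]
    push_cast
    ring
  rw [← h2, ← Finset.sum_filter, add_comm, Finset.sum_filter_add_sum_filter_not]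

end Loc

end Cfsg.Agent.Fg24.HalfDeg
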