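import Cfsg.Agent.BlockChar.Cyclic.DegreeBoundMain
import Cfsg.Agent.Char.Linear
import Cfsg.Agent.Char.Gen
import Cfsg.Agent.Char.ClassAlg
import Cfsg.Agent.Fg24.Osima.Extension

/-!
# Characters of degree `(p - 1) / 2`: normal subgroups
-/

set_option autoImplicit false

open Cfsg
open scoped ComplexConjugate Classical

namespace Cfsg.Agent.Fg24.HalfDeg

universe u

variable {G : Type u} [Group G] [Fintype G]

/-- The multiplicities of the irreducible constituents. -/
theorem exists_coeff {χ : G → ℂ} (hχ : IsCharacter G χ) :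
    ∃ a : IrrCharacter G → ℕ, (∀ ψ : IrrCharacter G, classInner χ (ψ : G → ℂ) = a ψ) ∧
      (∀ g, χ g = ∑ ψ : IrrCharacter G, (a ψ : ℂ) * (ψ : G → ℂ) g) ∧
      charDegree χ = ∑ ψ : IrrCharacter G, a ψ * charDegree (ψ : G → ℂ) := by
  choose a ha using fun ψ : IrrCharacter G =>
    Char.classInner_isCharacter_eq_natCast hχ (Char.IsIrr.isCharacter ψ.2)
  have hexp : ∀ g, χ g = ∑ ψ : IrrCharacter G, (a ψ : ℂ) * (ψ : G → ℂ) g := fun g => by
    rw [congrFun (Char.classFun_expansion (Char.isClassFunction_of_isCharacter hχ)) g,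
      Finset.sum_apply]
    exact Finset.sum_congr rfl fun ψ _ => by rw [Pi.smul_apply, smul_eq_mul, ha]
  refine ⟨a, ha, hexp, Nat.cast_injective (R := ℂ) ?_⟩
  push_cast
  rw [Blocks.charDegree_cast hχ, hexp 1]
  exact Finset.sum_congr rfl fun ψ _ => by rw [Blocks.charDegree_cast (Char.IsIrr.isCharacter ψ.2)]

/-- A constituent has at most the degree, and equals the character if the degrees agree. -/
theorem eq_of_constituent {χ : G → ℂ} (hχ : IsCharacter G χ) (ψ : IrrCharacter G)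
    (h0 : classInner χ (ψ : G → ℂ) ≠ 0) :
    charDegree (ψ : G → ℂ) ≤ charDegree χ ∧
      (charDegree χ ≤ charDegree (ψ : G → ℂ) → χ = (ψ : G → ℂ)) := by
  have hsub := Char.IsChar.sub_constituent hχ ψ.2 h0
  have h1 := Blocks.charDegree_cast hsub
  rw [Pi.sub_apply, ← Blocks.charDegree_cast hχ,
    ← Blocks.charDegree_cast (Char.IsIrr.isCharacter ψ.2)] at h1
  have h2 : charDegree (χ - (ψ : G → ℂ)) + charDegree (ψ : G → ℂ) = charDegree χ := by
    have h3 : ((charDegree (χ - (ψ : G → ℂ)) + charDegree (ψ : G → ℂ) : ℕ) : ℂ) =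
        (charDegree χ : ℂ) := by
      push_cast
      linear_combination h1
    exact_mod_cast h3
  refine ⟨by omega, fun hle => sub_eq_zero.1 ((Char.IsChar.eq_zero_iff hsub).2 ?_)⟩
  rw [← Blocks.charDegree_cast hsub, show charDegree (χ - (ψ : G → ℂ)) = 0 by omega, Nat.cast_zero]

variable {p : ℕ} [Fact p.Prime]

omit [Fintype G] in
theorem pow_eq_one_of_mem {P : Subgroup G} (hP : Nat.card P = p) {x : G} (hx : x ∈ P) :
    x ^ p = 1 := by
  have h : (⟨x, hx⟩ : P) ^ Nat.card P = 1 := pow_card_eq_one'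
  rw [hP] at h
  exact congrArg Subtype.val h

/-- If all constituents of a faithful character are small, `P` is normal. -/
theorem normal_of_small {P : Subgroup G} (hP : Nat.card P = p) (hsq : ¬ p ^ 2 ∣ Nat.card G)
    {χ : G → ℂ} (hχ : IsCharacter G χ) (hfaith : ∀ g, χ g = χ 1 → g = 1)
    (hsmall : ∀ ψ : IrrCharacter G, classInner χ (ψ : G → ℂ) ≠ 0 →
      2 * charDegree (ψ : G → ℂ) + 1 < p) : P.Normal := by
  have hp : p.Prime := Fact.out
  obtain ⟨a, ha, hexp, -⟩ := exists_coeff hχ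
  have key : ∀ ψ : IrrCharacter G, a ψ ≠ 0 → ∃ M : Subgroup G, M.Normal ∧ P ≤ M ∧
      ∀ l ∈ M, (ψ : G → ℂ) (l ^ p) = (ψ : G → ℂ) 1 := by
    intro ψ hψ
    set K := Char.kerSubgroup (Char.IsIrr.isCharacter ψ.2) with hK
    have : K.Normal := inferInstance
    by_cases hKp : p ∣ Nat.card K
    · refine ⟨K, inferInstance, fun x hx => BlockChar.DegreeBound.mem_of_pow_eq_one (G := G) hsq K
        hKp (pow_eq_one_of_mem hP hx), fun l hl => ?_⟩
      exact (Char.mem_kerSubgroup _).1 (pow_mem hl p)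
    obtain ⟨φ, hφ, hφv⟩ := Char.IsIrr.exists_quotient K ψ.2 fun n hn =>
      (Char.mem_kerSubgroup _).1 hn
    have hcard : Nat.card G = Nat.card (G ⧸ K) * Nat.card K :=
      Subgroup.card_eq_card_quotient_mul_card_subgroup K
    have hpq : p ∣ Nat.card (G ⧸ K) :=
      (hp.dvd_mul.1 (hcard ▸ hP ▸ Subgroup.card_subgroup_dvd_card P)).resolve_right hKp
    have hsqq : ¬ p ^ 2 ∣ Nat.card (G ⧸ K) := fun h => hsq (hcard ▸ h.mul_right _)
    have hfq : ∀ q : G ⧸ K, φ q = φ 1 → q = 1 := by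
      intro q hq
      obtain ⟨g, rfl⟩ := QuotientGroup.mk_surjective q
      rw [← QuotientGroup.mk_one, ← hφv, ← hφv] at hq
      exact (QuotientGroup.eq_one_iff g).2 ((Char.mem_kerSubgroup _).2 hq)
    have hd : charDegree φ = charDegree (ψ : G → ℂ) := by
      rw [charDegree, charDegree, hφv 1, QuotientGroup.mk_one]
    obtain ⟨H, hH, hHc⟩ := BlockChar.DegreeBound.exists_normal_of_card _ (G ⧸ K) rfl hpq hsqq φ
      (Char.IsIrr.isCharacter hφ) hfq (by
        rw [hd]; exact hsmall ψ (by rw [ha]; exact_mod_cast hψ))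
    refine ⟨H.comap (QuotientGroup.mk' K), inferInstance, fun x hx => ?_, fun l hl => ?_⟩
    · refine BlockChar.DegreeBound.mem_of_pow_eq_one (G := G ⧸ K) hsqq H (dvd_of_eq hHc.symm) ?_
      rw [← map_pow, pow_eq_one_of_mem hP hx, map_one]
    · have h1 := pow_eq_one_of_mem hHc (Subgroup.mem_comap.1 hl)
      rw [← map_pow, QuotientGroup.mk'_apply, QuotientGroup.eq_one_iff] at h1
      exact (Char.mem_kerSubgroup _).1 h1
  choose! M hMn hPM hM using key
  set L : Subgroup G := ⨅ ψ : {ψ : IrrCharacter G // a ψ ≠ 0}, M ψ with hL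
  have hLn : L.Normal := Subgroup.normal_iInf_normal fun ψ => hMn ψ ψ.2
  have hPL : P ≤ L := le_iInf fun ψ => hPM ψ ψ.2
  have hexp1 : ∀ l ∈ L, l ^ p = 1 := by
    intro l hl
    refine hfaith _ ?_
    rw [hexp, hexp 1]
    refine Finset.sum_congr rfl fun ψ _ => ?_
    by_cases h : a ψ = 0
    · rw [h, Nat.cast_zero, zero_mul, zero_mul]
    · rw [hM ψ h l (Subgroup.mem_iInf.1 hl ⟨ψ, h⟩)]
  have hpg : IsPGroup p L := fun l => ⟨1, by
    rw [pow_one]; exact Subtype.ext (hexp1 _ l.2)⟩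
  obtain ⟨k, hk⟩ := IsPGroup.iff_card.1 hpg
  have hk1 : k ≤ 1 := by
    by_contra h
    exact hsq (((pow_dvd_pow p (show 2 ≤ k by omega)).trans (dvd_of_eq hk.symm)).trans
      (Subgroup.card_subgroup_dvd_card L))
  have hLP : P = L := Subgroup.eq_of_le_of_card_ge hPL (by
    rw [hP, hk]
    exact (Nat.pow_le_pow_right hp.pos hk1).trans (le_of_eq (pow_one p)))
  exact hLP ▸ hLn

/-- The hypotheses. -/
structure Hyp (P : Sylow p G) (ζ : IrrCharacter G) : Prop where
  card : Nat.card (P : Subgroup G) = p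
  sq : ¬ p ^ 2 ∣ Nat.card G
  nn : ¬ (P : Subgroup G).Normal
  faith : ∀ g : G, (ζ : G → ℂ) g = (ζ : G → ℂ) 1 → g = 1
  deg : 2 * charDegree (ζ : G → ℂ) + 1 = p

namespace Hyp

variable {P : Sylow p G} {ζ : IrrCharacter G} (H : Hyp P ζ)
include H

/-- A normal subgroup containing `P` does not normalize it. -/
theorem not_normal_in {M : Subgroup G} (hM : M.Normal) (hPM : (P : Subgroup G) ≤ M) :
    ¬ ((P : Subgroup G).subgroupOf M).Normal := by
  intro h
  refine H.nn ⟨fun x hx g => ?_⟩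
  have hxM : g * x * g⁻¹ ∈ M := hM.conj_mem x (hPM hx) g
  haveI := h
  have h2 := BlockChar.DegreeBound.mem_of_pow_eq_one (G := G) (H := M)
    (fun h => H.sq (h.trans (Subgroup.card_subgroup_dvd_card M))) ((P : Subgroup G).subgroupOf M)
    (by rw [Nat.card_congr (Subgroup.subgroupOfEquivOfLe hPM).toEquiv, H.card])
    (u := ⟨g * x * g⁻¹, hxM⟩) (Subtype.ext (by
      show (g * x * g⁻¹) ^ p = 1
      rw [conj_pow, pow_eq_one_of_mem H.card hx, mul_one, mul_inv_cancel]))
  exact Subgroup.mem_subgroupOf.1 h2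

/-- The restriction to a normal subgroup containing `P` is irreducible. -/
theorem res_irr {M : Subgroup G} (hM : M.Normal) (hPM : (P : Subgroup G) ≤ M) :
    IsIrrCharacter M (fun m : M => (ζ : G → ℂ) (m : G)) := by
  have hres := Char.isCharacter_res M (Char.IsIrr.isCharacter ζ.2)
  have hdeg : charDegree (fun m : M => (ζ : G → ℂ) (m : G)) = charDegree (ζ : G → ℂ) := by
    rw [charDegree, charDegree, OneMemClass.coe_one]
  by_contra hirr
  refine H.not_normal_in hM hPM (normal_of_small (p := p) (P := (P : Subgroup G).subgroupOf M) ?_ ?_ hres ?_ ?_)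
  · rw [Nat.card_congr (Subgroup.subgroupOfEquivOfLe hPM).toEquiv, H.card]
  · exact fun h => H.sq (h.trans (Subgroup.card_subgroup_dvd_card M))
  · intro m hm
    exact Subtype.ext (H.faith m (hm.trans (by rw [OneMemClass.coe_one])))
  · intro ψ hψ
    obtain ⟨hle, heq⟩ := eq_of_constituent hres ψ hψ
    by_contra hbig
    refine hirr ?_
    rw [heq (by rw [hdeg] at hle ⊢; have := H.deg; omega)]
    exact ψ.2

/-- A normal `p'`-subgroup centralizes `P`. -/
theorem pPrime_comm {M : Subgroup G} (hM : M.Normal) (hMp : ¬ p ∣ Nat.card M) {m : G}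
    (hm : m ∈ M) {x : G} (hx : x ∈ (P : Subgroup G)) : m * x = x * m := by
  have hp : p.Prime := Fact.out
  set T := M ⊔ (P : Subgroup G) with hT
  have hPT : (P : Subgroup G) ≤ T := le_sup_right
  set Q := (P : Subgroup G).subgroupOf T with hQ
  have hQc : Nat.card Q = p := by
    rw [hQ, Nat.card_congr (Subgroup.subgroupOfEquivOfLe hPT).toEquiv, H.card]
  have hsqT : ¬ p ^ 2 ∣ Nat.card T := fun h => H.sq (h.trans (Subgroup.card_subgroup_dvd_card T))
  -- the normalizer of `P` in `M P` centralizes it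
  have hfix : ∀ g ∈ Subgroup.normalizer (Q : Set T), ∀ y : Q, g * (y : T) * g⁻¹ = y := by
    intro g hg y
    have hy : ((y : T) : G) ∈ (P : Subgroup G) := Subgroup.mem_subgroupOf.1 y.2
    obtain ⟨n, hn, w, hw, hgnw⟩ := Subgroup.mem_sup_of_normal_left.1 g.2
    have h1 : ((g * (y : T) * g⁻¹ : T) : G) ∈ (P : Subgroup G) :=
      Subgroup.mem_subgroupOf.1 ((Subgroup.mem_normalizer_iff.1 hg _).1 y.2)
    have h2 : ((g * (y : T) * g⁻¹ : T) : G) = n * ((y : T) : G) * n⁻¹ := by
      show (g : G) * ((y : T) : G) * (g : G)⁻¹ = _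
      rw [← hgnw, show n * w * ((y : T) : G) * (n * w)⁻¹ =
        n * (w * ((y : T) : G)) * w⁻¹ * n⁻¹ by group,
        BlockChar.PrimeShape.comm_of_card H.card w hw _ hy]
      group
    refine Subtype.ext ?_
    rw [h2] at h1 ⊢
    by_contra hne
    have hne' : n * ((y : T) : G) * n⁻¹ * ((y : T) : G)⁻¹ ≠ 1 := fun h => hne (mul_inv_eq_one.1 h)
    refine hMp ?_
    rw [← H.card, ← BlockChar.PrimeShape.zpowers_eq H.card (mul_mem h1 (inv_mem hy)) hne']
    refine Subgroup.card_dvd_of_le (Subgroup.zpowers_le.2 ?_)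
    rw [show n * ((y : T) : G) * n⁻¹ * ((y : T) : G)⁻¹ =
      n * (((y : T) : G) * n⁻¹ * ((y : T) : G)⁻¹) by group]
    exact mul_mem hn (hM.conj_mem _ (inv_mem hn) _)
  obtain ⟨M', hM'⟩ := Blocks.exists_isPModular p hp
  set χ : T → ℂ := fun t => (ζ : G → ℂ) (t : G) with hχd
  have hχ : IsCharacter T χ := Char.isCharacter_res T (Char.IsIrr.isCharacter ζ.2)
  obtain ⟨a, ha, hexp, hdsum⟩ := exists_coeff hχ
  set mT : T := ⟨m, le_sup_left (b := (P : Subgroup G)) hm⟩ with hmT
  set xT : T := ⟨x, hPT hx⟩ with hxT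
  suffices hc : (ζ : G → ℂ) ((m * x) * (x * m)⁻¹) = (ζ : G → ℂ) 1 from
    mul_inv_eq_one.1 (H.faith _ hc)
  show χ ((mT * xT) * (xT * mT)⁻¹) = (ζ : G → ℂ) 1
  rw [← OneMemClass.coe_one T]
  show _ = χ 1
  rw [hexp, hexp 1]
  refine Finset.sum_congr rfl fun ξ _ => ?_
  by_cases haξ : a ξ = 0
  · rw [haξ, Nat.cast_zero, zero_mul, zero_mul]
  congr 1
  have hdξ : charDegree (ξ : T → ℂ) ≤ charDegree (ζ : G → ℂ) := by
    have h := (eq_of_constituent hχ ξ (by rw [ha]; exact_mod_cast haξ)).1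
    rwa [show charDegree χ = charDegree (ζ : G → ℂ) by
      simp only [hχd, charDegree, OneMemClass.coe_one]] at h
  have hpos : 0 < charDegree (ξ : T → ℂ) := Blocks.charDegree_pos ξ.2
  have hdeg := H.deg
  obtain ⟨η₀, hout, -⟩ := BlockChar.PrimeShape.exists_shape hQc hsqT hM' ξ (fun h => by
    have := Nat.le_of_dvd hpos h
    omega)
  have horb : ∀ η, η ≠ η₀ → η ∉ BlockChar.PrimeShape.orb η₀ := by
    intro η hη hmem
    obtain ⟨g, hg, rfl⟩ := BlockChar.PrimeShape.mem_orb.1 hmem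
    exact hη (Subtype.ext (funext fun y =>
      BlockChar.Cyclic.twistIrr_apply η₀ hg y y (hfix g hg y).symm))
  have hzero : ∀ η, η ≠ η₀ → Blocks.resMult ξ η = 0 := by
    intro η hη
    by_contra hne
    have hsum := BlockChar.PrimeShape.degree_eq_sum hQc ξ
    have h1 : (p - 1) * Blocks.resMult ξ η ≤ charDegree (ξ : T → ℂ) := by
      rw [hsum, ← BlockChar.PrimeShape.card_irr hQc, ← Finset.card_univ,
        ← Finset.card_erase_of_mem (Finset.mem_univ η₀), ← smul_eq_mul, ← Finset.sum_const,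
        Finset.sum_congr rfl (g := fun μ => Blocks.resMult ξ μ) (fun μ hμ =>
          hout η μ (horb η hη) (horb μ (Finset.ne_of_mem_erase hμ)))]
      exact Finset.sum_le_sum_of_subset (Finset.erase_subset _ _)
    have h2 := Nat.le_mul_of_pos_right (p - 1) (Nat.pos_of_ne_zero hne)
    omega
  have hxQ : xT ∈ Q := Subgroup.mem_subgroupOf.2 hx
  obtain ⟨l, hl⟩ := Char.IsChar.exists_hom (Char.IsIrr.isCharacter η₀.2)
    (BlockChar.Cyclic.irr_mul_of_comm (BlockChar.PrimeShape.comm_of_card hQc) η₀).1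
  have hval : ∀ y : Q, (ξ : T → ℂ) (y : T) =
      (charDegree (ξ : T → ℂ) : ℂ) * (η₀ : Q → ℂ) y := by
    intro y
    rw [Blocks.res_eq_sum_resMult ξ y, BlockChar.PrimeShape.degree_eq_sum hQc ξ,
      Finset.sum_eq_single η₀ (fun η _ hη => by rw [hzero η hη, Nat.cast_zero, zero_mul])
        (fun h => absurd (Finset.mem_univ _) h),
      Finset.sum_eq_single η₀ (fun η _ hη => hzero η hη) (fun h => absurd (Finset.mem_univ _) h)]
  have hnorm : ‖(ξ : T → ℂ) xT‖ = charDegree (ξ : T → ℂ) := by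
    rw [hval ⟨xT, hxQ⟩, norm_mul, Complex.norm_natCast, hl]
    rw [Complex.norm_eq_one_of_pow_eq_one (n := Nat.card Q) (by
      rw [← Units.val_pow_eq_pow_val, ← map_pow, pow_card_eq_one', map_one, Units.val_one])
      Nat.card_pos.ne', mul_one]
  obtain ⟨n, ρ, -, hρ⟩ := ξ.2
  have hn : (charDegree (ξ : T → ℂ) : ℝ) = (Module.finrank ℂ (Fin n → ℂ) : ℝ) := by
    have h : (charDegree (ξ : T → ℂ) : ℂ) = (Module.finrank ℂ (Fin n → ℂ) : ℂ) := by
      rw [Blocks.charDegree_cast (Char.IsIrr.isCharacter ξ.2), ← hρ, ρ.char_one]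
    exact_mod_cast h
  obtain ⟨ω, hω, -⟩ := Char.scalar_of_norm_character_eq ρ xT (by rw [hρ, hnorm, hn])
  rw [← hρ]
  show LinearMap.trace ℂ _ (ρ ((mT * xT) * (xT * mT)⁻¹)) = LinearMap.trace ℂ _ (ρ 1)
  have h2 : ρ (mT * xT) = ρ (xT * mT) := by
    rw [map_mul, map_mul, hω, smul_mul_assoc, mul_smul_comm]
    exact congrArg (ω • ·) ((mul_one (ρ mT)).trans (one_mul (ρ mT)).symm)
  rw [map_mul, h2, ← map_mul, mul_inv_cancel]

/-- Normal `p'`-subgroups are central. -/
theorem pPrime_le_center {M : Subgroup G} (hM : M.Normal) (hMp : ¬ p ∣ Nat.card M) :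
    M ≤ Subgroup.center G := by
  set L := Subgroup.normalClosure ((P : Subgroup G) : Set G) with hL
  have hPL : (P : Subgroup G) ≤ L := fun x hx => Subgroup.subset_normalClosure hx
  have hML : ∀ m ∈ M, ∀ l ∈ L, m * l = l * m := by
    have h1 : L ≤ Subgroup.centralizer (M : Set G) := by
      haveI := hM
      exact Subgroup.normalClosure_le_normal fun x hx =>
        Subgroup.mem_centralizer_iff.2 fun m hm => H.pPrime_comm hM hMp hm hx
    exact fun m hm l hl => Subgroup.mem_centralizer_iff.1 (h1 hl) m hm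
  have hirr := H.res_irr (M := L) inferInstance hPL
  intro m hm
  obtain ⟨n, ρ, -, hρ⟩ := ζ.2
  let ρL : Representation ℂ L (Fin n → ℂ) := ρ.comp L.subtype
  have hρL : ρL.IsIrreducible := Osima.isIrreducible_of_char ρL (by
    rwa [show ρL.character = fun l : L => (ζ : G → ℂ) (l : G) by rw [← hρ]; rfl])
  obtain ⟨c, hc, -⟩ := Char.commute_eq_scalar ρL hρL (ρ m) fun l => by
    show ρ m * ρ (l : G) = ρ (l : G) * ρ m
    rw [← map_mul, ← map_mul, hML m hm l l.2]
  refine Subgroup.mem_center_iff.2 fun g => ?_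
  refine mul_inv_eq_one.1 (H.faith _ ?_)
  rw [← hρ]
  show LinearMap.trace ℂ _ (ρ (g * m * (m * g)⁻¹)) = LinearMap.trace ℂ _ (ρ 1)
  have h2 : ρ (g * m) = ρ (m * g) := by
    rw [map_mul, map_mul, hc, smul_mul_assoc, mul_smul_comm]
    exact congrArg (c • ·) ((mul_one (ρ g)).trans (one_mul (ρ g)).symm)
  rw [map_mul, h2, ← map_mul, mul_inv_cancel]

/-- An element centralizing modulo the centre is central. -/
theorem mem_center_of_comm {g : G} (hg : ∀ h : G, g * h * g⁻¹ * h⁻¹ ∈ Subgroup.center G) :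
    g ∈ Subgroup.center G := by
  set S := (Subgroup.center (G ⧸ Subgroup.center G)).comap (QuotientGroup.mk' (Subgroup.center G))
    with hS
  have hgS : g ∈ S := by
    refine Subgroup.mem_comap.2 (Subgroup.mem_center_iff.2 fun q => ?_)
    obtain ⟨h, rfl⟩ := QuotientGroup.mk_surjective q
    refine (mul_inv_eq_one.1 ?_).symm
    rw [mul_inv_rev, ← mul_assoc, QuotientGroup.mk'_apply, ← QuotientGroup.mk_mul,
      ← QuotientGroup.mk_inv, ← QuotientGroup.mk_inv, ← QuotientGroup.mk_mul,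
      ← QuotientGroup.mk_mul, QuotientGroup.eq_one_iff]
    exact hg h
  refine H.pPrime_le_center (M := S) inferInstance (fun hd => ?_) hgS
  refine H.nn ⟨fun x hx h => ?_⟩
  have hxS : x ∈ S :=
    BlockChar.DegreeBound.mem_of_pow_eq_one (G := G) H.sq S hd (pow_eq_one_of_mem H.card hx)
  have h1 := Subgroup.mem_center_iff.1 (Subgroup.mem_comap.1 hxS) (QuotientGroup.mk' _ h)
  have h2 : h * x * h⁻¹ * x⁻¹ ∈ Subgroup.center G := by
    rw [← QuotientGroup.eq_one_iff]
    show QuotientGroup.mk' (Subgroup.center G) (h * x * h⁻¹ * x⁻¹) = 1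
    rw [map_mul, map_mul, map_mul, map_inv, map_inv, h1]
    group
  set z := h * x * h⁻¹ * x⁻¹ with hz
  have h3 : z ^ p = 1 := by
    have h4 : (h * x * h⁻¹) = z * x := by rw [hz]; group
    have h5 := congrArg (· ^ p) h4
    simp only [conj_pow, pow_eq_one_of_mem H.card hx, mul_one, mul_inv_cancel,
      (show Commute z x from (Subgroup.mem_center_iff.1 h2 x).symm).mul_pow] at h5
    exact h5.symm
  have h6 : z ∈ (P : Subgroup G) := by
    by_cases hz1 : z = 1
    · rw [hz1]; exact one_mem _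
    have hpZ : p ∣ Nat.card (Subgroup.center G) := by
      have h7 := Subgroup.orderOf_dvd_natCard (Subgroup.center G) h2
      rwa [orderOf_eq_prime h3 hz1] at h7
    exfalso
    refine H.nn ⟨fun y hy k => ?_⟩
    have hyZ : y ∈ Subgroup.center G := BlockChar.DegreeBound.mem_of_pow_eq_one (G := G) H.sq _
      hpZ (pow_eq_one_of_mem H.card hy)
    rw [Subgroup.mem_center_iff.1 hyZ k, mul_inv_cancel_right]
    exact hy
  have h8 := mul_mem h6 hx
  rwa [hz, inv_mul_cancel_right] at h8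

end Hyp

end Cfsg.Agent.Fg24.HalfDeg
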