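import Cfsg.Agent.Fg24.HalfDeg.Count

/-!
# The bound on the number of Sylow subgroups
-/

set_option autoImplicit false
set_option linter.unusedSectionVars false

open Cfsg
open scoped ComplexConjugate Classical

namespace Cfsg.Agent.Fg24.HalfDeg

open Cfsg.Agent.BlockThms.OrderP

universe u

variable {G : Type u} [Group G] [Fintype G] {p : ℕ} [Fact p.Prime] {P : Sylow p G} {e : ℕ}
  {D : Dat P e}

namespace Couple

variable (Q : Couple D)
include Q

/-- An exceptional character trivial on the centre has small absolute value off the centre. -/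
theorem norm_lt {ζ : IrrCharacter G} (H : Hyp P ζ) (hQ : Q.α ∈ Over (Blocks.triv G))
    (hy : e ≤ charDegree (Q.α : G → ℂ)) {g : G} (hg : g ∉ Subgroup.center G) :
    ‖(Q.α : G → ℂ) g‖ < charDegree (Q.α : G → ℂ) := by
  obtain ⟨n, ρ, -, hρ⟩ := Q.α.2
  have hn : (charDegree (Q.α : G → ℂ) : ℝ) = (Module.finrank ℂ (Fin n → ℂ) : ℝ) := by
    have h : (charDegree (Q.α : G → ℂ) : ℂ) = (Module.finrank ℂ (Fin n → ℂ) : ℂ) := by
      rw [Blocks.charDegree_cast (Char.IsIrr.isCharacter Q.α.2), ← hρ, ρ.char_one]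
    exact_mod_cast h
  refine lt_of_le_of_ne ?_ fun h => hg ?_
  · rw [hn, ← hρ]
    exact Char.norm_character_le ρ g
  obtain ⟨ω, hω, -⟩ := Char.scalar_of_norm_character_eq ρ g (by rw [hρ, h, hn])
  set K := Char.kerSubgroup (Char.IsIrr.isCharacter Q.α.2) with hK
  refine H.mem_center_of_comm fun a => H.pPrime_le_center (M := K) inferInstance (fun hd => ?_)
    ((Char.mem_kerSubgroup _).2 ?_)
  · have hx := (Char.mem_kerSubgroup _).1 (BlockChar.DegreeBound.mem_of_pow_eq_one (G := G) H.sq K hd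
      (pow_eq_one_of_mem H.card (D.pw_mem (1 : ZMod p))))
    rw [Q.val 1 one_ne_zero, if_pos D.unit.one, Q.deg_cast] at hx
    have h2 := congrArg Complex.re Q.sq_sum
    simp only [Complex.mul_conj, Complex.add_re, Complex.ofReal_re, Complex.natCast_re,
      Complex.one_re, hx, Complex.normSq_natCast] at h2
    have h3 : (e : ℝ) ≤ (charDegree (Q.α : G → ℂ) : ℝ) := by exact_mod_cast hy
    have h4 : (2 : ℝ) ≤ e := by exact_mod_cast D.two_le
    nlinarith [Complex.normSq_nonneg Q.B]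
  · rw [← hρ]
    show LinearMap.trace ℂ _ (ρ (g * a * g⁻¹ * a⁻¹)) = LinearMap.trace ℂ _ (ρ 1)
    have h2 : ρ (g * a) = ρ (a * g) := by
      rw [map_mul, map_mul, hω, smul_mul_assoc, mul_smul_comm]
      exact congrArg (ω • ·) ((one_mul (ρ a)).trans (mul_one (ρ a)).symm)
    rw [show g * a * g⁻¹ * a⁻¹ = (g * a) * (a * g)⁻¹ by group, map_mul, h2, ← map_mul,
      mul_inv_cancel]

theorem norm_sq_center {k : G} (hk : k ∈ Subgroup.center G) :
    (Q.α : G → ℂ) k * conj ((Q.α : G → ℂ) k) =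
      (charDegree (Q.α : G → ℂ) : ℂ) * charDegree (Q.α : G → ℂ) := by
  rw [← one_mul k, cchar_apply Q.α hk, Q.deg_cast, map_mul, Complex.conj_natCast]
  linear_combination ((charDegree (Q.α : G → ℂ) : ℂ) * charDegree (Q.α : G → ℂ)) *
    cchar_mul_conj Q.α hk

/-- Square of an exceptional character on the regular elements. -/
theorem sum_reg_sq :
    ∑ g ∈ Finset.univ.filter (fun g : G => ¬ p ∣ orderOf g),
      (Q.α : G → ℂ) g * conj ((Q.α : G → ℂ) g) =
    (Nat.card (Sylow p G) : ℂ) * Nat.card (Subgroup.center G) * ((e : ℂ) * e) := by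
  have hsplit := D.sum_split (φ := fun g => (Q.α : G → ℂ) g * conj ((Q.α : G → ℂ) g))
    (fun g k => by simp only [Char.isClassFunction_of_isIrr Q.α.2 g k])
  have hnorm := Char.classInner_irr_self Q.α.2
  rw [classInner, inv_mul_eq_iff_eq_mul₀ Char.card_ne_zero, mul_one] at hnorm
  rw [hnorm, Finset.sum_congr rfl (g := fun t => (Nat.card (Subgroup.center G) : ℂ) *
    if t ∈ D.U then Q.A * conj Q.A else Q.B * conj Q.B) (fun t ht => ?_), ← Finset.mul_sum,
    D.sum_ite, Q.sq_sum, D.card_G] at hsplit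
  · have := Q.half'
    push_cast at hsplit
    linear_combination -hsplit +
      (Nat.card (Sylow p G) : ℂ) * Nat.card (Subgroup.center G) * (e : ℂ) * this
  · rw [Finset.sum_congr rfl (g := fun _ => (Q.α : G → ℂ) (pw D.x t) *
      conj ((Q.α : G → ℂ) (pw D.x t))) (fun k _ => by
        rw [cchar_apply Q.α k.2, map_mul]
        linear_combination ((Q.α : G → ℂ) (pw D.x t) * conj ((Q.α : G → ℂ) (pw D.x t))) *
          cchar_mul_conj Q.α k.2),
      Finset.sum_const, Finset.card_univ, nsmul_eq_mul, ← Nat.card_eq_fintype_card,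
      Q.val t (Finset.ne_of_mem_erase ht)]
    split_ifs <;> rfl

/-- Square of a partial sum of nonexceptional characters on the regular elements. -/
theorem sum_reg_sum_sq (S : Finset (IrrCharacter G)) {s : ℂ} (hs : s * conj s = 1)
    (hS : ∀ χ ∈ S, χ ∈ Over Q.α ∧ ∀ t : ZMod p, t ≠ 0 → (χ : G → ℂ) (pw D.x t) = s) :
    ∑ g ∈ Finset.univ.filter (fun g : G => ¬ p ∣ orderOf g),
      (∑ χ ∈ S, (χ : G → ℂ) g) * conj (∑ χ ∈ S, (χ : G → ℂ) g) =
    (Nat.card (Sylow p G) : ℂ) * Nat.card (Subgroup.center G) *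
      ((e : ℂ) * (S.card * ((p : ℂ) - 2 * S.card))) := by
  have hsplit := D.sum_split
    (φ := fun g => (∑ χ ∈ S, (χ : G → ℂ) g) * conj (∑ χ ∈ S, (χ : G → ℂ) g))
    (fun g k => by simp only [fun χ : IrrCharacter G => Char.isClassFunction_of_isIrr χ.2 g k])
  have hnorm : ∑ g : G, (∑ χ ∈ S, (χ : G → ℂ) g) * conj (∑ χ ∈ S, (χ : G → ℂ) g) =
      (Nat.card G : ℂ) * S.card := by
    simp only [map_sum, Finset.sum_mul_sum]
    rw [Finset.sum_comm, Finset.sum_congr rfl (g := fun _ => (Nat.card G : ℂ)) fun χ hχ => ?_,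
      Finset.sum_const, nsmul_eq_mul, mul_comm]
    rw [Finset.sum_comm, Finset.sum_eq_single_of_mem χ hχ fun ψ _ hne => ?_]
    · have h := Char.classInner_irr_self χ.2
      rwa [classInner, inv_mul_eq_iff_eq_mul₀ Char.card_ne_zero, mul_one] at h
    · have h := Char.classInner_irr_ne χ.2 ψ.2 fun e => hne (Subtype.ext e).symm
      rwa [classInner, inv_mul_eq_iff_eq_mul₀ Char.card_ne_zero, mul_zero] at h
  have hsing : ∀ t ∈ (Finset.univ : Finset (ZMod p)).erase 0,
      ∑ k : Subgroup.center G, (∑ χ ∈ S, (χ : G → ℂ) (pw D.x t * k)) *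
        conj (∑ χ ∈ S, (χ : G → ℂ) (pw D.x t * k)) =
      (Nat.card (Subgroup.center G) : ℂ) * ((S.card : ℂ) * S.card) := by
    intro t ht
    rw [Finset.sum_congr rfl (g := fun _ => (S.card : ℂ) * S.card) (fun k _ => ?_),
      Finset.sum_const, Finset.card_univ, nsmul_eq_mul, Nat.card_eq_fintype_card]
    have hv : ∀ χ ∈ S, (χ : G → ℂ) (pw D.x t * k) = cchar Q.α k * s := fun χ hχ => by
      rw [cchar_apply χ k.2, mem_Over.1 (hS χ hχ).1 k k.2,
        (hS χ hχ).2 t (Finset.ne_of_mem_erase ht)]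
    rw [Finset.sum_congr rfl hv, Finset.sum_const, nsmul_eq_mul, map_mul, map_mul,
      Complex.conj_natCast]
    linear_combination ((S.card : ℂ) * S.card * (s * conj s)) * cchar_mul_conj Q.α k.2 +
      ((S.card : ℂ) * S.card) * hs
  rw [hnorm, Finset.sum_congr rfl hsing, Finset.sum_const, Finset.card_erase_of_mem
    (Finset.mem_univ _), Finset.card_univ, ZMod.card, show p - 1 = 2 * e by have := D.half; omega,
    nsmul_eq_mul, D.card_G] at hsplit
  push_cast at hsplit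
  linear_combination -hsplit

end Couple

theorem sum_div {S : Finset (IrrCharacter G)} {d : ℕ} (h : ∀ χ ∈ S, charDegree (χ : G → ℂ) = d)
    (g : G) :
    ∑ χ ∈ S, conj ((χ : G → ℂ) g) / (χ : G → ℂ) 1 = conj (∑ χ ∈ S, (χ : G → ℂ) g) / (d : ℂ) := by
  rw [map_sum, Finset.sum_div]
  exact Finset.sum_congr rfl fun χ hχ => by
    rw [← Blocks.charDegree_cast (Char.IsIrr.isCharacter χ.2), h χ hχ]

/-- The inequality off the centre for odd `e`. -/
theorem real_odd {v e : ℝ} (he : 0 < e) (h1 : 0 ≤ (v + 1) * (v + e)) (h2 : 0 ≤ (v - 1) * (v - e))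
    (hv : |v| < e) : v * v ≤ 1 := by
  rw [abs_lt] at hv
  have ha : -1 ≤ v := by by_contra h; nlinarith
  have hb : v ≤ 1 := by by_contra h; nlinarith
  nlinarith

/-- The inequality off the centre for even `e`. -/
theorem real_even {r x e : ℝ} (hr : 0 ≤ r) (hre : r < e)
    (h1 : r * |x + e + 1| ≤ r * r + e + e * x) (h2 : r * |x - e - 1| ≤ r * r + e - e * x) :
    r * r ≤ 1 := by
  have key : ∀ y : ℝ, 0 ≤ y → r * (e + 1 - y) ≤ r * r + e - e * y → r * r ≤ 1 := by
    intro y hy h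
    have h3 : 0 ≤ (r - (1 - y)) * (r - e) := by nlinarith
    have h4 : r ≤ 1 - y := by by_contra h; nlinarith
    nlinarith
  rcases le_total 0 x with hx | hx
  · refine key x hx (le_trans (mul_le_mul_of_nonneg_left ?_ hr) h2)
    rw [abs_sub_comm (x - e) 1]
    nlinarith [le_abs_self (1 - (x - e))]
  · refine key (-x) (neg_nonneg.2 hx) (le_trans (mul_le_mul_of_nonneg_left ?_ hr) (le_of_le_of_eq h1 ?_))
    · linarith [le_abs_self (x + e + 1)]
    · ring

namespace Hyp

variable {ζ : IrrCharacter G} (H : Hyp P ζ) (Q₀ : Couple D) (hQ₀ : Q₀.α = ζ) (hσ₀ : Q₀.σ = -1)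
  (hd₀ : charDegree (ζ : G → ℂ) = e)
include H hQ₀ hσ₀ hd₀

set_option maxHeartbeats 1000000 in
/-- A function controlling the regular elements. -/
theorem exists_weight : ∃ w : G → ℝ,
    (∀ g : G, ¬ p ∣ orderOf g → g ∉ Subgroup.center G → 0 ≤ w g ∧ w g ≤ 1) ∧
    (∀ k ∈ Subgroup.center G, w k = (e : ℝ) * e) ∧
    ∑ g ∈ Finset.univ.filter (fun g : G => ¬ p ∣ orderOf g), w g =
      (Nat.card (Sylow p G) : ℝ) * Nat.card (Subgroup.center G) * ((e : ℝ) * e) ∧
    2 * ∑ g ∈ Finset.univ.filter (fun g : G => ¬ p ∣ orderOf g), w g * w g =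
      (Nat.card (Sylow p G) : ℝ) * Nat.card (Subgroup.center G) *
        ((e : ℝ) * e * ((e : ℝ) + 1)) := by
  obtain ⟨Q, hQ, hQd⟩ := D.exists_triv_couple
  obtain ⟨hpd, hnd, hcase⟩ := H.principal Q₀ hQ₀ hd₀ Q hQ hQd
  have he : (2 : ℝ) ≤ e := by exact_mod_cast D.two_le
  have hp0 : (0 : ℝ) < p := by exact_mod_cast (Fact.out : p.Prime).pos
  have hhalfC : (p : ℂ) = 2 * (e : ℂ) + 1 := Q.half'
  have he0 : (e : ℂ) ≠ 0 := Nat.cast_ne_zero.2 (by have := D.two_le; omega)
  have he1 : (e : ℂ) + 1 ≠ 0 := by exact_mod_cast Nat.succ_ne_zero e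
  have ha := D.a_spec
  have htp := Q.triv_mem_pos H.sq hQ
  have hposdiv : ∀ g : G, ∑ χ ∈ Q.pos, conj ((χ : G → ℂ) g) / (χ : G → ℂ) 1 =
      1 + (conj (∑ χ ∈ Q.pos, (χ : G → ℂ) g) - 1) / (2 * ((e : ℂ) + 1)) := by
    intro g
    have h := sum_div (S := Q.pos.erase (Blocks.triv G)) (d := p + 1)
      (fun χ hχ => hpd χ (Finset.mem_of_mem_erase hχ) (Finset.ne_of_mem_erase hχ)) g
    rw [← Finset.add_sum_erase _ _ htp, h, ← Finset.add_sum_erase _ _ htp]
    simp only [Blocks.triv, map_add, map_one, div_one]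
    push_cast
    rw [hhalfC]
    ring
  have hnegdiv : ∀ g : G, ∑ χ ∈ Q.neg, conj ((χ : G → ℂ) g) / (χ : G → ℂ) 1 =
      conj (∑ χ ∈ Q.neg, (χ : G → ℂ) g) / (2 * (e : ℂ)) := fun g => by
    rw [sum_div hnd g, Nat.cast_sub (Fact.out : p.Prime).one_le, hhalfC]
    push_cast
    ring
  have hκ1 : ∀ Q' : Couple D, Q'.A * conj ((Q'.α : G → ℂ) (pw D.x (1 : ZMod p))) +
      Q'.B * conj ((Q'.β : G → ℂ) (pw D.x (1 : ZMod p))) = (e : ℂ) + 1 := fun Q' => by
    rw [Q'.val 1 one_ne_zero, Q'.val' 1 one_ne_zero, if_pos D.unit.one, if_pos D.unit.one, Q'.sq_sum]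
  have hκa : ∀ Q' : Couple D, Q'.A * conj ((Q'.α : G → ℂ) (pw D.x D.a)) +
      Q'.B * conj ((Q'.β : G → ℂ) (pw D.x D.a)) = -(e : ℂ) := fun Q' => by
    rw [Q'.val _ ha.1, Q'.val' _ ha.1, if_neg ha.2, if_neg ha.2, Q'.cross]
  have hover : ∀ a b g : G, multOver Q.α a b g = multOver (Blocks.triv G) a b g := fun a b g => by
    rw [multOver, multOver, Over_eq hQ]
  rcases hcase with ⟨-, hev, hy, hnc, hid⟩ | ⟨-, -, hy, hpc, hid⟩
  · -- `e` even
    obtain ⟨hpd₀, hnd₀, hid₀⟩ := H.faithful_block Q₀ hQ₀ hσ₀ hd₀ Q hQ hQd hev hy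
    subst hQ₀
    refine ⟨fun g => Complex.normSq ((Q₀.α : G → ℂ) g), fun g hg hgZ =>
      ⟨Complex.normSq_nonneg _, ?_⟩, fun k hk => ?_, ?_, ?_⟩
    · obtain ⟨hid1, hid2⟩ := hid g hg
      obtain ⟨hid3, hid4⟩ := hid₀ g hg
      set v := (Q₀.α : G → ℂ) g with hv
      set x := ((Q.α : G → ℂ) g).re with hxdef
      have hx : (Q.α : G → ℂ) g = (x : ℂ) := (Complex.conj_eq_iff_re.1 (Q.real_reg hQ hg)).symm
      rw [hx] at hid1 hid3 hid4
      rw [Complex.mul_conj] at hid1 hid2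
      have hr : ‖v‖ * ‖v‖ = Complex.normSq v := by rw [Complex.normSq_eq_norm_sq, pow_two]
      have hlt : ‖v‖ < (e : ℝ) := by
        rw [← hd₀]
        refine lt_of_le_of_ne ?_ fun h => hgZ (H.mem_center_of_norm h)
        have h := Char.IsChar.norm_le (Char.IsIrr.isCharacter Q₀.α.2) g
        rw [← Blocks.charDegree_cast (Char.IsIrr.isCharacter Q₀.α.2), Complex.natCast_re] at h
        exact h
      have key : ∀ (u : ZMod p) (κ : ℂ) (A B : ℝ), u ≠ 0 →
          Q.A * conj ((Q.α : G → ℂ) (pw D.x u)) + Q.B * conj ((Q.β : G → ℂ) (pw D.x u)) = κ →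
          Q₀.A * conj ((Q₀.α : G → ℂ) (pw D.x u)) + Q₀.B * conj ((Q₀.β : G → ℂ) (pw D.x u)) = κ →
          κ * (x : ℂ) / ((e : ℂ) + 1) + (1 + ((Complex.normSq v : ℂ) - x - 1) / (2 * ((e : ℂ) + 1)) +
            (Complex.normSq v : ℂ) / (2 * (e : ℂ))) =
            ((p * A / (2 * e * (e + 1)) : ℝ) : ℂ) →
          κ * conj v / (e : ℂ) + (conj v * (x : ℂ) / (2 * ((e : ℂ) + 1)) +
            (conj v * (x : ℂ) - conj v) / (2 * (e : ℂ))) =
            conj v * ((p * B / (2 * e * (e + 1)) : ℝ) : ℂ) →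
          ‖v‖ * |B| ≤ A := by
        intro u κ A B hu h1 h2 hA hB
        obtain ⟨r, -, hr', hle⟩ := norm_multOver_le Q₀.α (pw D.x (1 : ZMod p)) (pw D.x u)⁻¹ g
        rw [← hover, Q.multOver_eq_sum H.sq hu h1 g hg, hposdiv, hnegdiv, hid1, hid2, hx, map_sub,
          Complex.conj_ofReal, Complex.conj_ofReal, Q.deg_cast, hy, Nat.cast_succ, hA] at hr'
        rw [Q₀.multOver_eq_sum H.sq hu h2 g hg, sum_div hpd₀ g, sum_div hnd₀ g, hid3, hid4, ← hv,
          map_sub, map_mul, Complex.conj_ofReal, Q₀.deg_cast, hd₀,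
          Nat.cast_sub (Fact.out : p.Prime).one_le, Nat.cast_succ, hhalfC,
          show (2 * (e : ℂ) + 1 + 1) = 2 * ((e : ℂ) + 1) by ring,
          show (2 * (e : ℂ) + 1 - (1 : ℕ)) = 2 * (e : ℂ) by push_cast; ring, hB, norm_mul,
          Complex.norm_conj, Complex.norm_real, Real.norm_eq_abs, abs_div, abs_mul,
          abs_of_pos hp0, abs_of_pos (show (0 : ℝ) < 2 * e * (e + 1) by positivity),
          ← Complex.ofReal_inj.1 hr'] at hle
        have hc : (0 : ℝ) < (p : ℝ) / (2 * e * (e + 1)) := by positivity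
        refine le_of_mul_le_mul_left ?_ hc
        calc (p : ℝ) / (2 * e * (e + 1)) * (‖v‖ * |B|) = ‖v‖ * (p * |B| / (2 * e * (e + 1))) := by
              ring
          _ ≤ p * A / (2 * e * (e + 1)) := hle
          _ = _ := by ring
      have k1 := key 1 ((e : ℂ) + 1) (Complex.normSq v + e + e * x) (x + e + 1) one_ne_zero
        (hκ1 Q) (hκ1 Q₀) (by push_cast; rw [hhalfC]; field_simp; ring)
        (by push_cast; rw [hhalfC]; field_simp; ring)
      have k2 := key D.a (-(e : ℂ)) (Complex.normSq v + e - e * x) (x - e - 1) ha.1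
        (hκa Q) (hκa Q₀) (by push_cast; rw [hhalfC]; field_simp; ring)
        (by push_cast; rw [hhalfC]; field_simp; ring)
      show Complex.normSq v ≤ 1
      rw [← hr] at k1 k2 ⊢
      exact real_even (norm_nonneg v) hlt k1 k2
    · have h := Q₀.norm_sq_center hk
      rw [Complex.mul_conj, hd₀] at h
      exact_mod_cast h
    · have h := Q₀.sum_reg_sq
      rw [← Complex.ofReal_inj]
      push_cast
      rw [← h]
      simp only [Complex.mul_conj]
    · have h := Q.sum_reg_sum_sq Q.neg (s := -1) (by simp)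
        (fun χ hχ => ⟨(Q.mem_rest.1 (Finset.filter_subset _ _ hχ)).1,
          fun t ht => Q.val_neg H.sq hχ ht⟩)
      have hwc : ∀ g ∈ Finset.univ.filter (fun g : G => ¬ p ∣ orderOf g),
          (∑ χ ∈ Q.neg, (χ : G → ℂ) g) * conj (∑ χ ∈ Q.neg, (χ : G → ℂ) g) =
          ((Complex.normSq ((Q₀.α : G → ℂ) g) * Complex.normSq ((Q₀.α : G → ℂ) g) : ℝ) : ℂ) := by
        intro g hg
        rw [(hid g (Finset.mem_filter.1 hg).2).2, Complex.ofReal_mul, ← Complex.mul_conj, map_mul,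
          Complex.conj_conj]
        ring
      rw [Finset.sum_congr rfl hwc, ← Complex.ofReal_sum] at h
      have hn : 2 * (Q.neg.card : ℂ) = (e : ℂ) := by exact_mod_cast hnc
      rw [← Complex.ofReal_inj]
      push_cast at h ⊢
      rw [h, hhalfC]
      linear_combination ((Nat.card (Sylow p G) : ℂ) * Nat.card (Subgroup.center G) * e *
        ((e : ℂ) + 1 - 2 * Q.neg.card)) * hn
  · -- `e` odd
    refine ⟨fun g => Complex.normSq ((Q.α : G → ℂ) g), fun g hg hgZ =>
      ⟨Complex.normSq_nonneg _, ?_⟩, fun k hk => ?_, ?_, ?_⟩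
    · obtain ⟨hid1, hid2⟩ := hid g hg
      set v := ((Q.α : G → ℂ) g).re with hvdef
      have hv : (Q.α : G → ℂ) g = (v : ℂ) := (Complex.conj_eq_iff_re.1 (Q.real_reg hQ hg)).symm
      rw [hv, Complex.conj_ofReal] at hid1 hid2
      have key : ∀ (u : ZMod p) (κ : ℂ) (A : ℝ), u ≠ 0 →
          Q.A * conj ((Q.α : G → ℂ) (pw D.x u)) + Q.B * conj ((Q.β : G → ℂ) (pw D.x u)) = κ →
          κ * (v : ℂ) / (e : ℂ) + (1 + ((v : ℂ) * v - 1) / (2 * ((e : ℂ) + 1)) +
            ((v : ℂ) * v - v) / (2 * (e : ℂ))) = ((p * A / (2 * e * (e + 1)) : ℝ) : ℂ) →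
          0 ≤ A := by
        intro u κ A hu h1 hA
        obtain ⟨r, hr0, hr', -⟩ := norm_multOver_le Q.α (pw D.x (1 : ZMod p)) (pw D.x u)⁻¹ g
        rw [← hover, Q.multOver_eq_sum H.sq hu h1 g hg, hposdiv, hnegdiv, hid1, hid2, hv, map_sub,
          map_mul, Complex.conj_ofReal, Q.deg_cast, hy, hA] at hr'
        rw [← Complex.ofReal_inj.1 hr'] at hr0
        by_contra hneg
        have : (p : ℝ) * A / (2 * e * (e + 1)) < 0 :=
          div_neg_of_neg_of_pos (mul_neg_of_pos_of_neg hp0 (not_le.1 hneg)) (by positivity)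
        linarith
      have k1 := key 1 ((e : ℂ) + 1) ((v + 1) * (v + e)) one_ne_zero (hκ1 Q)
        (by push_cast; rw [hhalfC]; field_simp; ring)
      have k2 := key D.a (-(e : ℂ)) ((v - 1) * (v - e)) ha.1 (hκa Q)
        (by push_cast; rw [hhalfC]; field_simp; ring)
      have hlt : |v| < (e : ℝ) := by
        have h := Q.norm_lt H hQ (le_of_eq hy.symm) hgZ
        rwa [hv, Complex.norm_real, Real.norm_eq_abs, hy] at h
      show Complex.normSq ((Q.α : G → ℂ) g) ≤ 1
      rw [hv, Complex.normSq_ofReal]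
      exact real_odd (by linarith) k1 k2 hlt
    · have h := Q.norm_sq_center hk
      rw [Complex.mul_conj, hy] at h
      exact_mod_cast h
    · have h := Q.sum_reg_sq
      rw [← Complex.ofReal_inj]
      push_cast
      rw [← h]
      simp only [Complex.mul_conj]
    · have h := Q.sum_reg_sum_sq Q.pos (s := 1) (by simp)
        (fun χ hχ => ⟨(Q.mem_rest.1 (Finset.filter_subset _ _ hχ)).1,
          fun t ht => Q.val_pos H.sq hχ ht⟩)
      have hwc : ∀ g ∈ Finset.univ.filter (fun g : G => ¬ p ∣ orderOf g),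
          (∑ χ ∈ Q.pos, (χ : G → ℂ) g) * conj (∑ χ ∈ Q.pos, (χ : G → ℂ) g) =
          ((Complex.normSq ((Q.α : G → ℂ) g) * Complex.normSq ((Q.α : G → ℂ) g) : ℝ) : ℂ) := by
        intro g hg
        rw [(hid g (Finset.mem_filter.1 hg).2).1, Complex.ofReal_mul, ← Complex.mul_conj, map_mul,
          Complex.conj_conj]
        ring
      rw [Finset.sum_congr rfl hwc, ← Complex.ofReal_sum] at h
      have hn : 2 * (Q.pos.card : ℂ) = (e : ℂ) + 1 := by exact_mod_cast hpc
      rw [← Complex.ofReal_inj]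
      push_cast at h ⊢
      rw [h, hhalfC]
      linear_combination ((Nat.card (Sylow p G) : ℂ) * Nat.card (Subgroup.center G) * e *
        ((e : ℂ) - 2 * Q.pos.card)) * hn

/-- There are `p + 1` Sylow subgroups. -/
theorem card_sylow : Nat.card (Sylow p G) = p + 1 := by
  have hp : p.Prime := Fact.out
  obtain ⟨w, hw1, hwZ, hs1, hs2⟩ := H.exists_weight Q₀ hQ₀ hσ₀ hd₀
  set R := Finset.univ.filter (fun g : G => ¬ p ∣ orderOf g) with hR
  set Zf := Finset.univ.filter (fun g : G => g ∈ Subgroup.center G) with hZf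
  have hZR : Zf ⊆ R := fun g hg =>
    Finset.mem_filter.2 ⟨Finset.mem_univ _, D.center_regular (Finset.mem_filter.1 hg).2⟩
  have hcZ : (Zf.card : ℝ) = Nat.card (Subgroup.center G) := by
    have h : Zf.card = Nat.card (Subgroup.center G) := by
      rw [Nat.card_eq_fintype_card, Fintype.card_subtype]
    exact_mod_cast h
  have hle : ∑ g ∈ R, (w g * w g - w g) ≤
      (Nat.card (Subgroup.center G) : ℝ) * ((e : ℝ) * e * ((e : ℝ) * e) - (e : ℝ) * e) := by
    rw [← Finset.sum_sdiff hZR, Finset.sum_congr rfl (s₁ := Zf)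
      (g := fun _ => (e : ℝ) * e * ((e : ℝ) * e) - (e : ℝ) * e)
      (fun g hg => by rw [hwZ g (Finset.mem_filter.1 hg).2]), Finset.sum_const, nsmul_eq_mul, hcZ]
    refine add_le_of_nonpos_left (Finset.sum_nonpos fun g hg => ?_)
    obtain ⟨hgR, hgZ⟩ := Finset.mem_sdiff.1 hg
    obtain ⟨h0, h1⟩ := hw1 g (Finset.mem_filter.1 hgR).2
      fun h => hgZ (Finset.mem_filter.2 ⟨Finset.mem_univ _, h⟩)
    nlinarith
  rw [Finset.sum_sub_distrib, hs1] at hle
  obtain ⟨N, hN⟩ : ∃ N, N = Nat.card (Sylow p G) := ⟨_, rfl⟩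
  rw [← hN] at hle hs1 hs2 ⊢
  have he : (2 : ℝ) ≤ e := by exact_mod_cast D.two_le
  have hc : (0 : ℝ) < (Nat.card (Subgroup.center G) : ℝ) * ((e : ℝ) * e * ((e : ℝ) - 1)) := by
    have h1 : (0 : ℝ) < Nat.card (Subgroup.center G) := by exact_mod_cast Nat.card_pos
    have h2 : (0 : ℝ) < (e : ℝ) - 1 := by linarith
    positivity
  have hN2 : (N : ℝ) ≤ 2 * ((e : ℝ) + 1) := by
    refine le_of_mul_le_mul_right ?_ hc
    linarith only [hle, hs2, show (N : ℝ) * (Nat.card (Subgroup.center G) *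
      ((e : ℝ) * e * ((e : ℝ) - 1))) = N * Nat.card (Subgroup.center G) *
        ((e : ℝ) * e * ((e : ℝ) + 1)) - 2 * (N * Nat.card (Subgroup.center G) * ((e : ℝ) * e)) by
      ring, show 2 * ((e : ℝ) + 1) * (Nat.card (Subgroup.center G) *
      ((e : ℝ) * e * ((e : ℝ) - 1))) = 2 * ((Nat.card (Subgroup.center G) : ℝ) *
        ((e : ℝ) * e * ((e : ℝ) * e) - (e : ℝ) * e)) by ring]
  have hN3 : N ≤ p + 1 := by
    have h : N ≤ 2 * (e + 1) := by exact_mod_cast hN2
    have := D.half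
    omega
  have hmod : N % p = 1 := by
    have h := card_sylow_modEq_one p G
    rw [← hN, Nat.ModEq, Nat.mod_eq_of_lt hp.one_lt] at h
    exact h
  have hne : N ≠ 1 := fun h => H.nn (by
    have hsub : Subsingleton (Sylow p G) := (Nat.card_eq_one_iff_unique.1 (hN ▸ h)).1
    exact Sylow.normal_of_subsingleton P)
  have h5 := H.five_le
  rcases (by omega : N < p ∨ N = p ∨ N = p + 1) with h | h | h
  · rw [Nat.mod_eq_of_lt h] at hmod; omega
  · rw [h, Nat.mod_self] at hmod; omega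
  · exact h

end Hyp

end Cfsg.Agent.Fg24.HalfDeg
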