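import Cfsg.Agent.Fg24.HalfDeg.Triv

/-!
# Degrees of the principal block
-/

set_option autoImplicit false
set_option linter.unusedSectionVars false

open Cfsg
open scoped ComplexConjugate Classical

namespace Cfsg.Agent.Fg24.HalfDeg

open Cfsg.Agent.BlockThms.OrderP

universe u

variable {G : Type u} [Group G] [Fintype G]

theorem Over_eq {ψ χ : IrrCharacter G} (h : χ ∈ Over ψ) : Over χ = Over ψ := by
  ext φ
  rw [mem_Over, mem_Over]
  exact ⟨fun h' k hk => (h' k hk).trans (mem_Over.1 h k hk),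
    fun h' k hk => (h' k hk).trans (mem_Over.1 h k hk).symm⟩

/-- The conjugate character. -/
noncomputable def conjI (χ : IrrCharacter G) : IrrCharacter G :=
  ⟨fun g => conj ((χ : G → ℂ) g), by
    rw [Char.isIrr_iff_norm_one (Char.isCharacter_conj (Char.IsIrr.isCharacter χ.2))]
    rw [← Char.classInner_irr_self χ.2]
    simp only [classInner, Complex.conj_conj]
    exact congrArg _ (Finset.sum_congr rfl fun g _ => mul_comm _ _)⟩

theorem conjI_apply (χ : IrrCharacter G) (g : G) :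
    (conjI χ : G → ℂ) g = conj ((χ : G → ℂ) g) := rfl

theorem cchar_conjI (χ : IrrCharacter G) (k : G) : cchar (conjI χ) k = conj (cchar χ k) := by
  rw [cchar, cchar, conjI_apply, conjI_apply, map_div₀]

/-- Arithmetic of the degrees. -/
theorem count_cases {p e a b Sp Sn y : ℕ} (hp : 2 * e + 1 = p) (he : 2 ≤ e) (hab : a + b = e)
    (hSp : (p + 1) * a ≤ Sp + p) (hSn : (p - 1) * b ≤ Sn) :
    ((e + 1 ≤ y → Sp + y ≤ e * e → Sn ≤ e * e →
      y = e + 1 ∧ 2 * b = e ∧ Sp + y = e * e ∧ Sn = e * e ∧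
        Sp + p = (p + 1) * a ∧ Sn = (p - 1) * b) ∧
    (e ≤ y → Sp ≤ e * e → Sn + y ≤ e * e →
      y = e ∧ 2 * a = e + 1 ∧ Sp = e * e ∧ Sn + y = e * e ∧
        Sp + p = (p + 1) * a ∧ Sn = (p - 1) * b)) := by
  subst hp
  rw [show 2 * e + 1 + 1 = 2 * (e + 1) by ring] at hSp
  rw [show 2 * e + 1 - 1 = 2 * e by omega] at hSn
  rw [show 2 * e + 1 + 1 = 2 * (e + 1) by ring, show 2 * e + 1 - 1 = 2 * e by omega]
  subst hab
  constructor
  · intro hy h1 h2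
    have hb : 2 * b ≤ a + b := Nat.le_of_mul_le_mul_left
      (show (a + b) * (2 * b) ≤ (a + b) * (a + b) by nlinarith) (by omega)
    have ha : 2 * a ≤ a + b := Nat.le_of_mul_le_mul_left
      (show (a + b + 1) * (2 * a) ≤ (a + b + 1) * (a + b) by nlinarith) (by omega)
    have hab' : a = b := by omega
    subst hab'
    refine ⟨by nlinarith, by omega, by nlinarith, by nlinarith, by nlinarith, by nlinarith⟩
  · intro hy h1 h2
    have hb : 2 * b + 1 ≤ a + b := Nat.le_of_mul_le_mul_left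
      (show (a + b) * (2 * b + 1) ≤ (a + b) * (a + b) by nlinarith) (by omega)
    have ha : 2 * a ≤ a + b + 1 := Nat.le_of_mul_le_mul_left
      (show (a + b + 1) * (2 * a) ≤ (a + b + 1) * (a + b + 1) by nlinarith) (by omega)
    have hab' : a = b + 1 := by omega
    subst hab'
    refine ⟨by nlinarith, by omega, by nlinarith, by nlinarith, by nlinarith, by nlinarith⟩

/-- Arithmetic of the degrees over a faithful central character. -/
theorem count_even {p e a b Sp Sn : ℕ} (hp : 2 * e + 1 = p) (he : 2 ≤ e) (hab : a + b = e)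
    (hSp : (p + 1) * a ≤ Sp) (hSn : (p - 1) * b ≤ Sn) (h1 : Sp ≤ e * (e + 1))
    (h2 : Sn + e ≤ e * (e + 1)) :
    Sp = e * (e + 1) ∧ Sn + e = e * (e + 1) ∧ Sp = (p + 1) * a ∧ Sn = (p - 1) * b := by
  subst hp
  rw [show 2 * e + 1 + 1 = 2 * (e + 1) by ring] at hSp
  rw [show 2 * e + 1 - 1 = 2 * e by omega] at hSn
  rw [show 2 * e + 1 + 1 = 2 * (e + 1) by ring, show 2 * e + 1 - 1 = 2 * e by omega]
  subst hab
  have hb : 2 * b ≤ a + b := Nat.le_of_mul_le_mul_left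
    (show (a + b) * (2 * b) ≤ (a + b) * (a + b) by nlinarith) (by omega)
  have ha : 2 * a ≤ a + b := Nat.le_of_mul_le_mul_left
    (show (a + b + 1) * (2 * a) ≤ (a + b + 1) * (a + b) by nlinarith) (by omega)
  have hab' : a = b := by omega
  subst hab'
  exact ⟨by nlinarith, by nlinarith, by nlinarith, by nlinarith⟩

variable {p : ℕ} [Fact p.Prime] {P : Sylow p G} {e : ℕ} {D : Dat P e}

namespace Couple

variable (Q : Couple D)
include Q

/-- On regular elements an exceptional character trivial on the centre is real. -/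
theorem real_reg (hQ : Q.α ∈ Over (Blocks.triv G)) {g : G} (hg : ¬ p ∣ orderOf g) :
    conj ((Q.α : G → ℂ) g) = (Q.α : G → ℂ) g := by
  have hO : conjI Q.α ∈ Over Q.α := mem_Over.2 fun k hk => by
    rw [cchar_conjI, mem_Over.1 hQ k hk, cchar_triv, map_one]
  by_cases ha : conjI Q.α = Q.α
  · rw [← conjI_apply, ha]
  by_cases hb : conjI Q.α = Q.β
  · rw [← conjI_apply, hb, Q.reg g hg]
  exfalso
  have h := Q.out_const hO ha hb (t := D.a) D.a_spec.1
  rw [conjI_apply, conjI_apply, Q.val _ D.a_spec.1, Q.val _ one_ne_zero, if_pos D.unit.one,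
    if_neg D.a_spec.2] at h
  exact Q.A_ne ((starRingEnd ℂ).injective h).symm

/-- The trivial character has value `1`. -/
theorem triv_mem_pos (hsq : ¬ p ^ 2 ∣ Nat.card G) (hQ : Q.α ∈ Over (Blocks.triv G)) :
    Blocks.triv G ∈ Q.pos := by
  have hv : ∀ t : ZMod p, ((Blocks.triv G : IrrCharacter G) : G → ℂ) (pw D.x t) = 1 :=
    fun t => by simp [Blocks.triv]
  have hne : ∀ ψ : IrrCharacter G, ψ = Q.α ∨ ψ = Q.β → ψ ≠ Blocks.triv G := by
    intro ψ hψ h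
    refine Q.A_ne ?_
    subst h
    rcases hψ with h | h
    · have h1 := hv 1
      have h2 := hv D.a
      rw [h, Q.val 1 one_ne_zero, if_pos D.unit.one] at h1
      rw [h, Q.val _ D.a_spec.1, if_neg D.a_spec.2] at h2
      rw [h1, h2]
    · have h1 := hv 1
      have h2 := hv D.a
      rw [h, Q.val' 1 one_ne_zero, if_pos D.unit.one] at h1
      rw [h, Q.val' _ D.a_spec.1, if_neg D.a_spec.2] at h2
      rw [h1, h2]
  have hr : Blocks.triv G ∈ Q.rest := Q.mem_rest.2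
    ⟨by rw [Over_eq hQ]; exact self_mem_Over _, fun h => hne _ (Or.inl h) rfl,
      fun h => hne _ (Or.inr h) rfl⟩
  refine Finset.mem_filter.2 ⟨hr, ?_⟩
  have h := (Q.z_spec hsq hr).1 1 one_ne_zero
  rw [hv] at h
  exact_mod_cast h.symm

theorem sum_neg_ge (hsq : ¬ p ^ 2 ∣ Nat.card G) :
    (p - 1) * Q.neg.card ≤ ∑ χ ∈ Q.neg, charDegree (χ : G → ℂ) := by
  rw [mul_comm, ← smul_eq_mul, ← Finset.sum_const]
  exact Finset.sum_le_sum fun χ hχ => Q.neg_degree hsq hχ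

theorem neg_deg_eq (hsq : ¬ p ^ 2 ∣ Nat.card G)
    (h : ∑ χ ∈ Q.neg, charDegree (χ : G → ℂ) = (p - 1) * Q.neg.card) {χ : IrrCharacter G}
    (hχ : χ ∈ Q.neg) : charDegree (χ : G → ℂ) = p - 1 := by
  refine ((Finset.sum_eq_sum_iff_of_le fun χ hχ => Q.neg_degree hsq hχ).1 ?_ χ hχ).symm
  rw [h, Finset.sum_const, smul_eq_mul, mul_comm]

theorem sum_pos_ge (hsq : ¬ p ^ 2 ∣ Nat.card G) (hQ : Q.α ∈ Over (Blocks.triv G))
    (hlin : ∀ χ ∈ Q.pos, charDegree (χ : G → ℂ) = 1 → χ = Blocks.triv G) :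
    (p + 1) * Q.pos.card ≤ ∑ χ ∈ Q.pos, charDegree (χ : G → ℂ) + p ∧
      (∑ χ ∈ Q.pos, charDegree (χ : G → ℂ) + p = (p + 1) * Q.pos.card →
        ∀ χ ∈ Q.pos, χ ≠ Blocks.triv G → charDegree (χ : G → ℂ) = p + 1) := by
  have ht := Q.triv_mem_pos hsq hQ
  have hd1 : charDegree ((Blocks.triv G : IrrCharacter G) : G → ℂ) = 1 :=
    Blocks.charDegree_eq (by simp [Blocks.triv])
  have hle : ∀ χ ∈ Q.pos.erase (Blocks.triv G), p + 1 ≤ charDegree (χ : G → ℂ) := fun χ hχ =>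
    Q.pos_degree hsq (Finset.mem_of_mem_erase hχ) fun h =>
      Finset.ne_of_mem_erase hχ (hlin χ (Finset.mem_of_mem_erase hχ) h)
  have hsum := Finset.add_sum_erase Q.pos (fun χ => charDegree (χ : G → ℂ)) ht
  have hcard := Finset.card_erase_add_one ht
  have hge := Finset.sum_le_sum hle
  rw [Finset.sum_const, smul_eq_mul] at hge
  rw [hd1] at hsum
  refine ⟨by rw [← hcard, ← hsum]; linarith, fun h χ hχ hne => ?_⟩
  refine ((Finset.sum_eq_sum_iff_of_le hle).1 ?_ χ (Finset.mem_erase.2 ⟨hne, hχ⟩)).symm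
  rw [Finset.sum_const, smul_eq_mul]
  rw [← hcard, ← hsum] at h
  linarith

theorem sum_pos_ge' (hsq : ¬ p ^ 2 ∣ Nat.card G)
    (hlin : ∀ χ ∈ Q.pos, charDegree (χ : G → ℂ) ≠ 1) :
    (p + 1) * Q.pos.card ≤ ∑ χ ∈ Q.pos, charDegree (χ : G → ℂ) ∧
      (∑ χ ∈ Q.pos, charDegree (χ : G → ℂ) = (p + 1) * Q.pos.card →
        ∀ χ ∈ Q.pos, charDegree (χ : G → ℂ) = p + 1) := by
  have hle : ∀ χ ∈ Q.pos, p + 1 ≤ charDegree (χ : G → ℂ) :=
    fun χ hχ => Q.pos_degree hsq hχ (hlin χ hχ)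
  refine ⟨?_, fun h χ hχ => ((Finset.sum_eq_sum_iff_of_le hle).1 ?_ χ hχ).symm⟩
  · rw [mul_comm, ← smul_eq_mul, ← Finset.sum_const]
    exact Finset.sum_le_sum hle
  · rw [h, Finset.sum_const, smul_eq_mul, mul_comm]

theorem deg_cast : (Q.α : G → ℂ) 1 = (charDegree (Q.α : G → ℂ) : ℂ) :=
  (Blocks.charDegree_cast (Char.IsIrr.isCharacter Q.α.2)).symm

/-- The structure constants over the central character of the pair. -/
theorem multOver_eq_sum (hsq : ¬ p ^ 2 ∣ Nat.card G) {u : ZMod p} (hu : u ≠ 0) {κ : ℂ}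
    (hκ : Q.A * conj ((Q.α : G → ℂ) (pw D.x u)) + Q.B * conj ((Q.β : G → ℂ) (pw D.x u)) = κ)
    (g : G) (hg : ¬ p ∣ orderOf g) :
    multOver Q.α (pw D.x (1 : ZMod p)) (pw D.x u)⁻¹ g =
      κ * conj ((Q.α : G → ℂ) g) / (Q.α : G → ℂ) 1 +
        (∑ χ ∈ Q.pos, conj ((χ : G → ℂ) g) / (χ : G → ℂ) 1 +
          ∑ χ ∈ Q.neg, conj ((χ : G → ℂ) g) / (χ : G → ℂ) 1) := by
  have hinv : ∀ χ : IrrCharacter G, (χ : G → ℂ) (pw D.x u)⁻¹ = conj ((χ : G → ℂ) (pw D.x u)) :=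
    fun χ => Char.IsChar.inv_eq_conj (Char.IsIrr.isCharacter χ.2) _
  have hp1 : ∀ χ ∈ Q.pos, (χ : G → ℂ) (pw D.x (1 : ZMod p)) * (χ : G → ℂ) (pw D.x u)⁻¹ *
      conj ((χ : G → ℂ) g) / (χ : G → ℂ) 1 = conj ((χ : G → ℂ) g) / (χ : G → ℂ) 1 := fun χ hχ => by
    rw [hinv, Q.val_pos hsq hχ one_ne_zero, Q.val_pos hsq hχ hu, map_one, one_mul, one_mul]
  have hn1 : ∀ χ ∈ Q.neg, (χ : G → ℂ) (pw D.x (1 : ZMod p)) * (χ : G → ℂ) (pw D.x u)⁻¹ *
      conj ((χ : G → ℂ) g) / (χ : G → ℂ) 1 = conj ((χ : G → ℂ) g) / (χ : G → ℂ) 1 := fun χ hχ => by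
    rw [hinv, Q.val_neg hsq hχ one_ne_zero, Q.val_neg hsq hχ hu, map_neg, map_one, neg_mul_neg,
      one_mul, one_mul]
  rw [multOver, Q.sum_over_eq hsq (fun χ _ h => by rw [h, zero_mul, zero_mul, zero_div]),
    Finset.sum_congr rfl hp1, Finset.sum_congr rfl hn1]
  congr 1
  rw [hinv, hinv, Q.val 1 one_ne_zero, Q.val' 1 one_ne_zero, if_pos D.unit.one, if_pos D.unit.one,
    Q.reg g hg, Q.reg 1 Q.not_one, ← hκ]
  ring

end Couple

namespace Hyp

variable {ζ : IrrCharacter G} (H : Hyp P ζ) (Q₀ : Couple D) (hQ₀ : Q₀.α = ζ) (hσ₀ : Q₀.σ = -1)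
  (hd₀ : charDegree (ζ : G → ℂ) = e) (Q : Couple D) (hQ : Q.α ∈ Over (Blocks.triv G))
  (hQd : (charDegree (Q.α : G → ℂ) : ℤ) ≡ -((e : ℤ) * Q.σ) [ZMOD p])
include H hQ₀ hd₀ hQ hQd

/-- The degrees in the principal block, and the first identity. -/
theorem principal :
    (∀ χ ∈ Q.pos, χ ≠ Blocks.triv G → charDegree (χ : G → ℂ) = p + 1) ∧
    (∀ χ ∈ Q.neg, charDegree (χ : G → ℂ) = p - 1) ∧
    ((Q.σ = 1 ∧ Even e ∧ charDegree (Q.α : G → ℂ) = e + 1 ∧ 2 * Q.neg.card = e ∧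
        ∀ g : G, ¬ p ∣ orderOf g →
          ∑ χ ∈ Q.pos, (χ : G → ℂ) g = (ζ : G → ℂ) g * conj ((ζ : G → ℂ) g) - (Q.α : G → ℂ) g ∧
          ∑ χ ∈ Q.neg, (χ : G → ℂ) g = (ζ : G → ℂ) g * conj ((ζ : G → ℂ) g)) ∨
      (Q.σ = -1 ∧ Odd e ∧ charDegree (Q.α : G → ℂ) = e ∧ 2 * Q.pos.card = e + 1 ∧
        ∀ g : G, ¬ p ∣ orderOf g →
          ∑ χ ∈ Q.pos, (χ : G → ℂ) g = (Q.α : G → ℂ) g * conj ((Q.α : G → ℂ) g) ∧
          ∑ χ ∈ Q.neg, (χ : G → ℂ) g =
            (Q.α : G → ℂ) g * conj ((Q.α : G → ℂ) g) - (Q.α : G → ℂ) g)) := by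
  have he := D.two_le
  have hpe := D.half
  have hω : ∀ Q' : Couple D, ∀ k ∈ Subgroup.center G,
      cchar Q.α k = cchar Q'.α k * conj (cchar Q'.α k) := fun Q' k hk => by
    rw [mem_Over.1 hQ k hk, cchar_triv, cchar_mul_conj Q'.α hk]
  have hlin : ∀ χ ∈ Q.pos, charDegree (χ : G → ℂ) = 1 → χ = Blocks.triv G := fun χ hχ hd => by
    refine H.linear_triv Q₀ hQ₀ χ hd ?_ (Q.val_pos H.sq hχ one_ne_zero)
    rw [← Over_eq hQ]
    exact (Q.mem_rest.1 (Finset.filter_subset _ _ hχ)).1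
  obtain ⟨hSp, hSpe⟩ := Q.sum_pos_ge H.sq hQ hlin
  have hSn := Q.sum_neg_ge H.sq
  have hab := Q.card_pos_add_neg H.sq
  obtain ⟨hev, hod⟩ := count_cases (y := charDegree (Q.α : G → ℂ)) hpe he hab hSp hSn
  obtain ⟨⟨hi1, hi2⟩, hI1, hI2⟩ := identity H.sq Q₀ Q₀ Q Q₀.diff_mul_conj (hω Q₀)
  rw [hQ₀, hd₀] at hi1 hi2 hI1 hI2
  have hypos : 0 < charDegree (Q.α : G → ℂ) := Blocks.charDegree_pos Q.α.2
  rcases Q.σ_or with hs | hs
  · rw [hs] at hQd
    rw [if_pos hs] at hi1 hI1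
    rw [if_neg (by rw [hs]; decide)] at hi2 hI2
    have hy : e + 1 ≤ charDegree (Q.α : G → ℂ) := by
      rw [Int.modEq_iff_dvd] at hQd
      have h4 : (p : ℤ) ∣ ((charDegree (Q.α : G → ℂ) + e : ℕ) : ℤ) := by
        rw [← dvd_neg, show -((charDegree (Q.α : G → ℂ) + e : ℕ) : ℤ) =
          -((e : ℤ) * 1) - (charDegree (Q.α : G → ℂ) : ℤ) by push_cast; ring]
        exact hQd
      have := Nat.le_of_dvd (by omega) (Int.natCast_dvd_natCast.1 h4)
      omega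
    obtain ⟨h1, h2, h3, h4, h5, h6⟩ := hev hy hi1 (by omega)
    refine ⟨hSpe h5, fun χ hχ => Q.neg_deg_eq H.sq h6 hχ,
      Or.inl ⟨hs, ⟨Q.neg.card, by omega⟩, h1, h2, fun g hg => ⟨?_, ?_⟩⟩⟩
    · have := hI1 (le_of_eq h3.symm) g hg
      rw [if_pos hs] at this
      linear_combination -this
    · have := hI2 (by omega) g hg
      rw [if_neg (by rw [hs]; decide)] at this
      linear_combination -this
  · rw [hs] at hQd
    rw [if_neg (by rw [hs]; decide)] at hi1 hI1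
    rw [if_pos hs] at hi2 hI2
    have hy : e ≤ charDegree (Q.α : G → ℂ) := by
      rw [Int.modEq_iff_dvd] at hQd
      by_contra hlt
      have h4 : (p : ℤ) ∣ ((e - charDegree (Q.α : G → ℂ) : ℕ) : ℤ) := by
        rw [Nat.cast_sub (by omega)]
        convert hQd using 1
        ring
      have := Nat.le_of_dvd (by omega) (Int.natCast_dvd_natCast.1 h4)
      omega
    obtain ⟨h1, h2, h3, h4, h5, h6⟩ := hod hy (by omega) hi2
    refine ⟨hSpe h5, fun χ hχ => Q.neg_deg_eq H.sq h6 hχ,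
      Or.inr ⟨hs, ⟨Q.pos.card - 1, by omega⟩, h1, h2, fun g hg => ?_⟩⟩
    obtain ⟨-, hJ1, hJ2⟩ := identity H.sq Q Q Q Q.diff_mul_conj (hω Q)
    rw [if_neg (by rw [hs]; decide)] at hJ1
    rw [if_pos hs] at hJ2
    rw [h1] at hJ1 hJ2
    constructor
    · have := hJ1 (by omega) g hg
      rw [if_neg (by rw [hs]; decide)] at this
      linear_combination -this
    · have := hJ2 (by omega) g hg
      rw [if_pos hs] at this
      linear_combination -this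

include hσ₀

/-- The identity over the faithful central character. -/
theorem faithful_block (he2 : Even e) (hy : charDegree (Q.α : G → ℂ) = e + 1) :
    (∀ χ ∈ Q₀.pos, charDegree (χ : G → ℂ) = p + 1) ∧
    (∀ χ ∈ Q₀.neg, charDegree (χ : G → ℂ) = p - 1) ∧
    ∀ g : G, ¬ p ∣ orderOf g →
      ∑ χ ∈ Q₀.pos, (χ : G → ℂ) g = (ζ : G → ℂ) g * (Q.α : G → ℂ) g ∧
      ∑ χ ∈ Q₀.neg, (χ : G → ℂ) g = (ζ : G → ℂ) g * (Q.α : G → ℂ) g - (ζ : G → ℂ) g := by
  have he := D.two_le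
  have hlin : ∀ χ ∈ Q₀.pos, charDegree (χ : G → ℂ) ≠ 1 := by
    intro χ hχ hd
    have h1 : (χ : G → ℂ) 1 = 1 := by
      rw [← Blocks.charDegree_cast (Char.IsIrr.isCharacter χ.2), hd, Nat.cast_one]
    obtain ⟨f, hf⟩ := Char.IsChar.exists_hom (Char.IsIrr.isCharacter χ.2) h1
    have hf1 : ∀ g, (χ : G → ℂ) g * conj ((χ : G → ℂ) g) = 1 := by
      intro g
      rw [hf]
      show ((f g : ℂˣ) : ℂ) * conj ((f g : ℂˣ) : ℂ) = 1
      rw [Char.mul_conj_eq_norm_sq, Complex.norm_eq_one_of_pow_eq_one (n := orderOf g) (by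
        rw [← Units.val_pow_eq_pow_val, ← map_pow, pow_orderOf_eq_one, map_one, Units.val_one])
        (orderOf_pos g).ne', one_pow, Complex.ofReal_one]
    have hrc : IsCharacter G ((Q₀.α : G → ℂ) * (conjI χ : G → ℂ)) :=
      Char.isCharacter_mul (Char.IsIrr.isCharacter Q₀.α.2) (Char.IsIrr.isCharacter (conjI χ).2)
    have hri : IsIrrCharacter G ((Q₀.α : G → ℂ) * (conjI χ : G → ℂ)) := by
      rw [Char.isIrr_iff_norm_one hrc, ← Char.classInner_irr_self Q₀.α.2]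
      simp only [classInner, Pi.mul_apply, map_mul, conjI_apply, Complex.conj_conj]
      congr 1
      exact Finset.sum_congr rfl fun g _ => by
        linear_combination ((Q₀.α : G → ℂ) g * conj ((Q₀.α : G → ℂ) g)) * hf1 g
    set ρ : IrrCharacter G := ⟨_, hri⟩ with hρ
    have hρO : ρ ∈ Over Q.α := mem_Over.2 fun k hk => by
      have hχO := mem_Over.1 (Q₀.mem_rest.1 (Finset.filter_subset _ _ hχ)).1 k hk
      rw [mem_Over.1 hQ k hk, cchar_triv, ← cchar_mul_conj Q₀.α hk]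
      rw [cchar, h1, div_one] at hχO
      simp only [cchar, hρ, Pi.mul_apply, conjI_apply, h1, map_one, mul_one, hχO]
      ring
    have hval : ∀ t : ZMod p, t ≠ 0 →
        (ρ : G → ℂ) (pw D.x t) = if t ∈ D.U then Q₀.A else Q₀.B := fun t ht => by
      rw [← Q₀.val t ht]
      simp only [hρ, Pi.mul_apply, conjI_apply, Q₀.val_pos H.sq hχ ht, map_one, mul_one]
    have hdρ : charDegree (ρ : G → ℂ) = e := by
      refine Blocks.charDegree_eq ?_
      simp only [hρ, Pi.mul_apply, conjI_apply, h1, map_one, mul_one]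
      rw [Q₀.deg_cast, hQ₀, hd₀]
    by_cases ha : ρ = Q.α
    · rw [ha, hy] at hdρ; omega
    by_cases hb : ρ = Q.β
    · rw [hb, Q.deg_eq, hy] at hdρ; omega
    have h := Q.out_const hρO ha hb (t := D.a) D.a_spec.1
    rw [hval _ D.a_spec.1, hval _ one_ne_zero, if_pos D.unit.one, if_neg D.a_spec.2] at h
    exact Q₀.A_ne h.symm
  -- choose the labelling of the pair trivial on the centre
  have hreal : ∀ Q' : Couple D, conj (Q'.A - Q'.B) = Q'.A - Q'.B := fun Q' => by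
    have h1 := D.conj_val he2 Q'.α (t := 1) one_ne_zero
    have h2 := D.conj_val he2 Q'.α D.a_spec.1
    rw [Q'.val _ one_ne_zero, if_pos D.unit.one] at h1
    rw [Q'.val _ D.a_spec.1, if_neg D.a_spec.2] at h2
    rw [map_sub, h1, h2]
  have hsq : (Q.A - Q.B) ^ 2 = (Q₀.A - Q₀.B) ^ 2 := by
    have h1 := Q.diff_mul_conj
    have h2 := Q₀.diff_mul_conj
    rw [hreal] at h1 h2
    linear_combination h1 - h2
  obtain ⟨Q', hK, hreg', hdeg', hO'⟩ : ∃ Q' : Couple D,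
      (Q₀.A - Q₀.B) * conj (Q'.A - Q'.B) = (p : ℂ) ∧
      (∀ g, ¬ p ∣ orderOf g → (Q'.α : G → ℂ) g = (Q.α : G → ℂ) g) ∧
      charDegree (Q'.α : G → ℂ) = charDegree (Q.α : G → ℂ) ∧
      Q'.α ∈ Over (Blocks.triv G) := by
    rcases sq_eq_sq_iff_eq_or_eq_neg.1 hsq with h | h
    · exact ⟨Q, by rw [h, Q₀.diff_mul_conj], fun g _ => rfl, rfl, hQ⟩
    · refine ⟨Q.swap, ?_, fun g hg => Q.reg g hg, Q.deg_eq, ?_⟩
      · show (Q₀.A - Q₀.B) * conj (Q.B - Q.A) = (p : ℂ)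
        rw [← neg_sub Q.A, h, neg_neg, Q₀.diff_mul_conj]
      · show Q.β ∈ Over (Blocks.triv G)
        rw [← Over_eq hQ]
        exact Q.β_mem
  obtain ⟨hSp, hSpe⟩ := Q₀.sum_pos_ge' H.sq hlin
  have hSn := Q₀.sum_neg_ge H.sq
  have hab := Q₀.card_pos_add_neg H.sq
  obtain ⟨⟨hi1, hi2⟩, hI1, hI2⟩ := identity H.sq Q₀ Q' Q₀ hK fun k hk => by
    rw [mem_Over.1 hO' k hk, cchar_triv, map_one, mul_one]
  rw [if_neg (by rw [hσ₀]; decide), hdeg', hQ₀, hd₀, hy, add_zero] at hi1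
  rw [if_pos hσ₀, hdeg', hQ₀, hd₀, hy] at hi2
  rw [if_neg (by rw [hσ₀]; decide), hdeg', hQ₀, hd₀, hy] at hI1
  rw [if_pos hσ₀, hdeg', hQ₀, hd₀, hy] at hI2
  obtain ⟨h1, h2, h3, h4⟩ := count_even D.half he hab hSp hSn hi1 hi2
  refine ⟨hSpe h3, fun χ hχ => Q₀.neg_deg_eq H.sq h4 hχ, fun g hg => ?_⟩
  have e1 := hI1 (le_of_eq (h1.symm.trans (add_zero _).symm)) g hg
  have e2 := hI2 (le_of_eq h2.symm) g hg
  rw [if_neg (by rw [hσ₀]; decide), hreg' g hg, Q.real_reg hQ hg, add_zero] at e1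
  rw [if_pos hσ₀, hreg' g hg, Q.real_reg hQ hg] at e2
  exact ⟨e1.symm, by linear_combination -e2⟩

end Hyp

end Cfsg.Agent.Fg24.HalfDeg
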