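import Cfsg.Agent.Fg24.HalfDeg.Over

/-!
# Products of two differences of exceptional characters
-/

set_option autoImplicit false
set_option linter.unusedSectionVars false

open Cfsg
open scoped ComplexConjugate Classical

namespace Cfsg.Agent.Fg24.HalfDeg

open Cfsg.Agent.BlockThms.OrderP

universe u

variable {G : Type u} [Group G] [Fintype G]

/-- A character with prescribed lower bounds for the multiplicities. -/
theorem bound_of_coeff {Q : G → ℂ} (hQ : IsCharacter G Q) (r : IrrCharacter G → ℕ)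
    (hr : ∀ (χ : IrrCharacter G) (m : ℕ), classInner Q (χ : G → ℂ) = m → r χ ≤ m) :
    ∑ χ : IrrCharacter G, r χ * charDegree (χ : G → ℂ) ≤ charDegree Q ∧
      (charDegree Q ≤ ∑ χ : IrrCharacter G, r χ * charDegree (χ : G → ℂ) →
        ∀ g, Q g = ∑ χ : IrrCharacter G, (r χ : ℂ) * (χ : G → ℂ) g) := by
  obtain ⟨a, ha, hexp, hd⟩ := exists_coeff hQ
  have hle : ∀ χ ∈ (Finset.univ : Finset (IrrCharacter G)),
      r χ * charDegree (χ : G → ℂ) ≤ a χ * charDegree (χ : G → ℂ) :=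
    fun χ _ => Nat.mul_le_mul_right _ (hr χ _ (ha χ))
  refine ⟨hd ▸ Finset.sum_le_sum hle, fun h g => ?_⟩
  have heq := (Finset.sum_eq_sum_iff_of_le hle).1 (le_antisymm (Finset.sum_le_sum hle) (hd ▸ h))
  rw [hexp]
  refine Finset.sum_congr rfl fun χ _ => ?_
  rw [Nat.eq_of_mul_eq_mul_right (Blocks.charDegree_pos χ.2) (heq χ (Finset.mem_univ _))]

variable {p : ℕ} [Fact p.Prime] {P : Sylow p G} {e : ℕ} {D : Dat P e}

namespace Couple

/-- The constant value of a character on the nontrivial elements of `P`. -/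
noncomputable def z (_Q : Couple D) (χ : IrrCharacter G) : ℤ :=
  if h : ∃ z : ℤ, (χ : G → ℂ) (pw D.x (1 : ZMod p)) = (z : ℂ) then h.choose else 0

variable (Q : Couple D)
include Q

/-- The other characters over the central character. -/
noncomputable def rest : Finset (IrrCharacter G) := ((Over Q.α).erase Q.α).erase Q.β

theorem mem_rest {χ : IrrCharacter G} :
    χ ∈ Q.rest ↔ χ ∈ Over Q.α ∧ χ ≠ Q.α ∧ χ ≠ Q.β := by
  simp only [rest, Finset.mem_erase]
  tauto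

theorem z_spec (hsq : ¬ p ^ 2 ∣ Nat.card G) {χ : IrrCharacter G} (hχ : χ ∈ Q.rest) :
    (∀ t : ZMod p, t ≠ 0 → (χ : G → ℂ) (pw D.x t) = (Q.z χ : ℂ)) ∧
      (Q.z χ = 0 ∨ Q.z χ = 1 ∨ Q.z χ = -1) ∧
      (charDegree (χ : G → ℂ) : ℤ) ≡ Q.z χ [ZMOD p] := by
  obtain ⟨h1, h2, h3⟩ := Q.mem_rest.1 hχ
  have hc := fun t ht => Q.out_const h1 h2 h3 (t := t) ht
  obtain ⟨z, hz, hzor, hzd⟩ := D.const_value hsq χ hc
  have hex : ∃ z : ℤ, (χ : G → ℂ) (pw D.x (1 : ZMod p)) = (z : ℂ) := ⟨z, hz⟩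
  have he : Q.z χ = z := by
    have h := hex.choose_spec
    rw [Couple.z, dif_pos hex]
    exact_mod_cast h.symm.trans hz
  rw [he]
  exact ⟨fun t ht => (hc t ht).trans hz, hzor, hzd⟩

/-- The characters with value `1` on the nontrivial elements of `P`. -/
noncomputable def pos : Finset (IrrCharacter G) := Q.rest.filter fun χ => Q.z χ = 1

/-- The characters with value `-1` on the nontrivial elements of `P`. -/
noncomputable def neg : Finset (IrrCharacter G) := Q.rest.filter fun χ => Q.z χ = -1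

theorem val_pos (hsq : ¬ p ^ 2 ∣ Nat.card G) {χ : IrrCharacter G} (hχ : χ ∈ Q.pos) {t : ZMod p}
    (ht : t ≠ 0) : (χ : G → ℂ) (pw D.x t) = 1 := by
  obtain ⟨h1, h2⟩ := Finset.mem_filter.1 hχ
  rw [(Q.z_spec hsq h1).1 t ht, h2, Int.cast_one]

theorem val_neg (hsq : ¬ p ^ 2 ∣ Nat.card G) {χ : IrrCharacter G} (hχ : χ ∈ Q.neg) {t : ZMod p}
    (ht : t ≠ 0) : (χ : G → ℂ) (pw D.x t) = -1 := by
  obtain ⟨h1, h2⟩ := Finset.mem_filter.1 hχ
  rw [(Q.z_spec hsq h1).1 t ht, h2]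
  norm_num

theorem disj : Disjoint Q.pos Q.neg := Finset.disjoint_left.2 fun χ h1 h2 => by
  have := (Finset.mem_filter.1 h1).2
  have := (Finset.mem_filter.1 h2).2
  omega

/-- A sum over the characters over `α` of a function vanishing with the value on `P`. -/
theorem sum_over_eq (hsq : ¬ p ^ 2 ∣ Nat.card G) {f : IrrCharacter G → ℂ}
    (h0 : ∀ χ ∈ Over Q.α, (χ : G → ℂ) (pw D.x (1 : ZMod p)) = 0 → f χ = 0) :
    ∑ χ ∈ Over Q.α, f χ =
      f Q.α + f Q.β + (∑ χ ∈ Q.pos, f χ + ∑ χ ∈ Q.neg, f χ) := by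
  have h1 : ∑ χ ∈ Over Q.α, f χ = f Q.α + (f Q.β + ∑ χ ∈ Q.rest, f χ) := by
    rw [rest, Finset.add_sum_erase _ _ (Finset.mem_erase.2 ⟨Q.ne.symm, Q.β_mem⟩),
      Finset.add_sum_erase _ _ (self_mem_Over Q.α)]
  have h2 : ∑ χ ∈ Q.rest, f χ = ∑ χ ∈ Q.pos, f χ + ∑ χ ∈ Q.neg, f χ := by
    rw [← Finset.sum_union Q.disj, pos, neg, ← Finset.filter_or, Finset.sum_filter_of_ne]
    intro χ hχ hne
    obtain ⟨h1, h2, -⟩ := Q.z_spec hsq hχ
    rcases h2 with h | h | h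
    · refine absurd (h0 χ (Q.mem_rest.1 hχ).1 ?_) hne
      rw [h1 1 one_ne_zero, h, Int.cast_zero]
    · exact Or.inl h
    · exact Or.inr h
  rw [h1, h2, add_assoc]

theorem card_pos_add_neg (hsq : ¬ p ^ 2 ∣ Nat.card G) : Q.pos.card + Q.neg.card = e := by
  have h := D.orth_sing Q.α (s := 1) (t := 1) one_ne_zero one_ne_zero
  have hp1 : ∑ χ ∈ Q.pos, (χ : G → ℂ) (pw D.x (1 : ZMod p)) *
      conj ((χ : G → ℂ) (pw D.x (1 : ZMod p))) = ∑ χ ∈ Q.pos, (1 : ℂ) :=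
    Finset.sum_congr rfl fun χ hχ => by rw [Q.val_pos hsq hχ one_ne_zero, map_one, one_mul]
  have hn1 : ∑ χ ∈ Q.neg, (χ : G → ℂ) (pw D.x (1 : ZMod p)) *
      conj ((χ : G → ℂ) (pw D.x (1 : ZMod p))) = ∑ χ ∈ Q.neg, (1 : ℂ) :=
    Finset.sum_congr rfl fun χ hχ => by
      rw [Q.val_neg hsq hχ one_ne_zero, map_neg, map_one, neg_mul_neg, one_mul]
  rw [if_pos Iff.rfl, Q.sum_over_eq hsq (fun χ _ h => by rw [h, zero_mul]),
    Q.val 1 one_ne_zero, Q.val' 1 one_ne_zero, if_pos D.unit.one, if_pos D.unit.one, Q.sq_sum,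
    hp1, hn1,
    Finset.sum_const, Finset.sum_const, nsmul_eq_mul, nsmul_eq_mul, mul_one, mul_one,
    Q.half'] at h
  have h2 : ((Q.pos.card + Q.neg.card : ℕ) : ℂ) = (e : ℂ) := by push_cast; linear_combination h
  exact_mod_cast h2

theorem neg_degree (hsq : ¬ p ^ 2 ∣ Nat.card G) {χ : IrrCharacter G} (hχ : χ ∈ Q.neg) :
    p - 1 ≤ charDegree (χ : G → ℂ) := by
  obtain ⟨h1, h2⟩ := Finset.mem_filter.1 hχ
  have h3 := (Q.z_spec hsq h1).2.2
  rw [h2, Int.modEq_iff_dvd] at h3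
  have h4 : (p : ℤ) ∣ ((charDegree (χ : G → ℂ) + 1 : ℕ) : ℤ) := by
    rw [← dvd_neg]
    rw [show -((charDegree (χ : G → ℂ) + 1 : ℕ) : ℤ) =
      (-1 : ℤ) - (charDegree (χ : G → ℂ) : ℤ) by push_cast; ring]
    exact h3
  have := Nat.le_of_dvd (Nat.succ_pos _) (Int.natCast_dvd_natCast.1 h4)
  omega

theorem pos_degree (hsq : ¬ p ^ 2 ∣ Nat.card G) {χ : IrrCharacter G} (hχ : χ ∈ Q.pos)
    (h1' : charDegree (χ : G → ℂ) ≠ 1) : p + 1 ≤ charDegree (χ : G → ℂ) := by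
  obtain ⟨h1, h2⟩ := Finset.mem_filter.1 hχ
  have h3 := (Q.z_spec hsq h1).2.2
  rw [h2] at h3
  have hpos : 0 < charDegree (χ : G → ℂ) := Blocks.charDegree_pos χ.2
  have h4 : (p : ℤ) ∣ ((charDegree (χ : G → ℂ) - 1 : ℕ) : ℤ) := by
    rw [Nat.cast_sub hpos]
    exact_mod_cast Int.ModEq.dvd h3.symm
  have := Nat.le_of_dvd (by omega) (Int.natCast_dvd_natCast.1 h4)
  omega

/-- The exceptional pair interchanged. -/
def swap : Couple D where
  α := Q.β
  β := Q.α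
  A := Q.B
  B := Q.A
  σ := Q.σ
  σ_or := Q.σ_or
  reg g hg := (Q.reg g hg).symm
  val := Q.val'
  val' := Q.val
  sum_eq := by rw [add_comm, Q.sum_eq]
  norm_eq := by rw [← Complex.normSq_neg, neg_sub, Q.norm_eq]

end Couple

theorem classInner_diff {X Y : G → ℂ} {χ : IrrCharacter G} {z : ℤ}
    (h : classInner (X - Y) (χ : G → ℂ) = (z : ℂ)) (m n : ℕ)
    (hm : classInner X (χ : G → ℂ) = m) (hn : classInner Y (χ : G → ℂ) = n) :
    (m : ℤ) - n = z := by
  rw [Char.classInner_sub_left, hm, hn] at h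
  exact_mod_cast h

/-- The product identity. -/
theorem identity (hsq : ¬ p ^ 2 ∣ Nat.card G) (Q₁ Q₂ Q : Couple D)
    (hK : (Q₁.A - Q₁.B) * conj (Q₂.A - Q₂.B) = (p : ℂ))
    (hω : ∀ k ∈ Subgroup.center G, cchar Q.α k = cchar Q₁.α k * conj (cchar Q₂.α k)) :
    (∑ χ ∈ Q.pos, charDegree (χ : G → ℂ) + (if Q.σ = 1 then charDegree (Q.α : G → ℂ) else 0) ≤
        charDegree (Q₁.α : G → ℂ) * charDegree (Q₂.α : G → ℂ) ∧
      ∑ χ ∈ Q.neg, charDegree (χ : G → ℂ) + (if Q.σ = -1 then charDegree (Q.α : G → ℂ) else 0) ≤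
        charDegree (Q₁.α : G → ℂ) * charDegree (Q₂.α : G → ℂ)) ∧
    (charDegree (Q₁.α : G → ℂ) * charDegree (Q₂.α : G → ℂ) ≤
        ∑ χ ∈ Q.pos, charDegree (χ : G → ℂ) + (if Q.σ = 1 then charDegree (Q.α : G → ℂ) else 0) →
      ∀ g : G, ¬ p ∣ orderOf g → (Q₁.α : G → ℂ) g * conj ((Q₂.α : G → ℂ) g) =
        ∑ χ ∈ Q.pos, (χ : G → ℂ) g + (if Q.σ = 1 then (Q.α : G → ℂ) g else 0)) ∧
    (charDegree (Q₁.α : G → ℂ) * charDegree (Q₂.α : G → ℂ) ≤
        ∑ χ ∈ Q.neg, charDegree (χ : G → ℂ) + (if Q.σ = -1 then charDegree (Q.α : G → ℂ) else 0) →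
      ∀ g : G, ¬ p ∣ orderOf g → (Q₁.α : G → ℂ) g * conj ((Q₂.α : G → ℂ) g) =
        ∑ χ ∈ Q.neg, (χ : G → ℂ) g + (if Q.σ = -1 then (Q.α : G → ℂ) g else 0)) := by
  set Xp : G → ℂ := ((Q₁.α : G → ℂ) * fun g => conj ((Q₂.α : G → ℂ) g)) +
    ((Q₁.β : G → ℂ) * fun g => conj ((Q₂.β : G → ℂ) g)) with hXp
  set Xm : G → ℂ := ((Q₁.α : G → ℂ) * fun g => conj ((Q₂.β : G → ℂ) g)) +
    ((Q₁.β : G → ℂ) * fun g => conj ((Q₂.α : G → ℂ) g)) with hXm
  have hch : ∀ χ ψ : IrrCharacter G,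
      IsCharacter G ((χ : G → ℂ) * fun g => conj ((ψ : G → ℂ) g)) := fun χ ψ =>
    Char.isCharacter_mul (Char.IsIrr.isCharacter χ.2)
      (Char.isCharacter_conj (Char.IsIrr.isCharacter ψ.2))
  have hXpc : IsCharacter G Xp := Char.isCharacter_add (hch _ _) (hch _ _)
  have hXmc : IsCharacter G Xm := Char.isCharacter_add (hch _ _) (hch _ _)
  have hdiff : ∀ g, (Xp - Xm) g =
      ((Q₁.α : G → ℂ) g - (Q₁.β : G → ℂ) g) *
        conj ((Q₂.α : G → ℂ) g - (Q₂.β : G → ℂ) g) := fun g => by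
    simp only [hXp, hXm, Pi.sub_apply, Pi.add_apply, Pi.mul_apply, map_sub]
    ring
  have hne : (e : ℂ) * (p : ℂ) * (Nat.card (Subgroup.center G) : ℂ) ≠ 0 :=
    mul_ne_zero (mul_ne_zero (Nat.cast_ne_zero.2 (by have := D.two_le; omega)) D.p_ne)
      (Nat.cast_ne_zero.2 Nat.card_pos.ne')
  have hinner : ∀ χ ∈ Over Q.α, (e : ℂ) * classInner (Xp - Xm) (χ : G → ℂ) =
      ∑ t ∈ (Finset.univ : Finset (ZMod p)).erase 0, conj ((χ : G → ℂ) (pw D.x t)) := by
    intro χ hχ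
    have h := D.classInner_singular (φ := Xp - Xm) (ψ := (χ : G → ℂ))
      (fun g k => by
        simp only [hdiff, Char.isClassFunction_of_isIrr Q₁.α.2 g k,
          Char.isClassFunction_of_isIrr Q₁.β.2 g k, Char.isClassFunction_of_isIrr Q₂.α.2 g k,
          Char.isClassFunction_of_isIrr Q₂.β.2 g k])
      (Char.isClassFunction_of_isIrr χ.2)
      (fun g hg => Or.inl (by rw [hdiff, Q₁.reg g hg, sub_self, zero_mul]))
    have hfib : ∀ t ∈ (Finset.univ : Finset (ZMod p)).erase 0,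
        ∑ k : Subgroup.center G, (Xp - Xm) (pw D.x t * k) * conj ((χ : G → ℂ) (pw D.x t * k)) =
        (Nat.card (Subgroup.center G) : ℂ) * ((p : ℂ) * conj ((χ : G → ℂ) (pw D.x t))) := by
      intro t ht
      have ht' := Finset.ne_of_mem_erase ht
      have hK' : ((Q₁.α : G → ℂ) (pw D.x t) - (Q₁.β : G → ℂ) (pw D.x t)) *
          conj ((Q₂.α : G → ℂ) (pw D.x t) - (Q₂.β : G → ℂ) (pw D.x t)) = (p : ℂ) := by
        rw [Q₁.val t ht', Q₁.val' t ht', Q₂.val t ht', Q₂.val' t ht']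
        split_ifs
        · exact hK
        · rw [← hK]; simp only [map_sub]; ring
      rw [Finset.sum_congr rfl (g := fun _ => (p : ℂ) * conj ((χ : G → ℂ) (pw D.x t)))
        (fun k _ => ?_), Finset.sum_const, Finset.card_univ, nsmul_eq_mul, Nat.card_eq_fintype_card]
      rw [hdiff, cchar_apply χ k.2, cchar_apply Q₁.α k.2, cchar_apply Q₁.β k.2, Q₁.cc k.2,
        cchar_apply Q₂.α k.2, cchar_apply Q₂.β k.2, Q₂.cc k.2, ← hK', ← mul_sub, ← mul_sub,
        mem_Over.1 hχ k k.2, hω k k.2]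
      simp only [map_mul, map_sub, Complex.conj_conj]
      have h1 := cchar_mul_conj Q₁.α k.2
      have h2 := cchar_mul_conj Q₂.α k.2
      linear_combination (((Q₁.α : G → ℂ) (pw D.x t) - (Q₁.β : G → ℂ) (pw D.x t)) *
        (conj ((Q₂.α : G → ℂ) (pw D.x t)) - conj ((Q₂.β : G → ℂ) (pw D.x t))) *
        conj ((χ : G → ℂ) (pw D.x t))) *
          ((cchar Q₂.α k * conj (cchar Q₂.α k)) * h1 + h2)
    rw [← Finset.add_sum_erase _ _ (Finset.mem_univ (0 : ZMod p)),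
      Finset.sum_eq_zero (fun k _ => by
        rw [D.pw_zero, one_mul, hdiff, Q₁.reg _ (D.center_regular k.2), sub_self, zero_mul,
          zero_mul]), zero_add, Finset.sum_congr rfl hfib, ← Finset.mul_sum, ← Finset.mul_sum] at h
    refine mul_left_cancel₀ (mul_ne_zero D.p_ne
      (Nat.cast_ne_zero.2 (Nat.card_pos (α := Subgroup.center G)).ne' :
        (Nat.card (Subgroup.center G) : ℂ) ≠ 0)) ?_
    linear_combination h
  have he0 : (e : ℂ) ≠ 0 := Nat.cast_ne_zero.2 (by have := D.two_le; omega)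
  have hrest : ∀ χ ∈ Q.rest, classInner (Xp - Xm) (χ : G → ℂ) = ((2 * Q.z χ : ℤ) : ℂ) := by
    intro χ hχ
    refine mul_left_cancel₀ he0 ?_
    rw [hinner χ (Q.mem_rest.1 hχ).1, Finset.sum_congr rfl (g := fun _ => (Q.z χ : ℂ))
      (fun t ht => by rw [(Q.z_spec hsq hχ).1 t (Finset.ne_of_mem_erase ht), map_intCast]),
      Finset.sum_const, Finset.card_erase_of_mem (Finset.mem_univ _), Finset.card_univ, ZMod.card,
      show p - 1 = 2 * e by have := D.half; omega, nsmul_eq_mul]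
    push_cast
    ring
  have hex : ∀ χ ∈ ({Q.α, Q.β} : Finset (IrrCharacter G)),
      classInner (Xp - Xm) (χ : G → ℂ) = (Q.σ : ℂ) := by
    have hσ : conj (Q.A + Q.B) = (Q.σ : ℂ) := by rw [Q.sum_eq, map_intCast]
    intro χ hχ
    refine mul_left_cancel₀ he0 ?_
    simp only [Finset.mem_insert, Finset.mem_singleton] at hχ
    rcases hχ with rfl | rfl
    · rw [hinner _ (self_mem_Over _), Finset.sum_congr rfl
        (g := fun t => if t ∈ D.U then conj Q.A else conj Q.B) (fun t ht => by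
          rw [Q.val t (Finset.ne_of_mem_erase ht)]; split_ifs <;> rfl), D.sum_ite, ← map_add, hσ]
    · rw [hinner _ Q.β_mem, Finset.sum_congr rfl
        (g := fun t => if t ∈ D.U then conj Q.B else conj Q.A) (fun t ht => by
          rw [Q.val' t (Finset.ne_of_mem_erase ht)]; split_ifs <;> rfl), D.sum_ite, ← map_add,
        add_comm, hσ]
  have hXd : ∀ (χ₁ χ₂ ψ₁ ψ₂ : IrrCharacter G),
      charDegree (χ₁ : G → ℂ) = charDegree (Q₁.α : G → ℂ) →
      charDegree (χ₂ : G → ℂ) = charDegree (Q₁.α : G → ℂ) →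
      charDegree (ψ₁ : G → ℂ) = charDegree (Q₂.α : G → ℂ) →
      charDegree (ψ₂ : G → ℂ) = charDegree (Q₂.α : G → ℂ) →
      charDegree (((χ₁ : G → ℂ) * fun g => conj ((ψ₁ : G → ℂ) g)) +
        ((χ₂ : G → ℂ) * fun g => conj ((ψ₂ : G → ℂ) g))) =
        2 * (charDegree (Q₁.α : G → ℂ) * charDegree (Q₂.α : G → ℂ)) := by
    intro χ₁ χ₂ ψ₁ ψ₂ h1 h2 h3 h4
    refine Blocks.charDegree_eq ?_
    simp only [Pi.add_apply, Pi.mul_apply,
      ← Blocks.charDegree_cast (Char.IsIrr.isCharacter χ₁.2),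
      ← Blocks.charDegree_cast (Char.IsIrr.isCharacter χ₂.2),
      ← Blocks.charDegree_cast (Char.IsIrr.isCharacter ψ₁.2),
      ← Blocks.charDegree_cast (Char.IsIrr.isCharacter ψ₂.2), Complex.conj_natCast, h1, h2, h3, h4]
    push_cast
    ring
  have key : ∀ (X Y : G → ℂ) (s : ℤ) (S : Finset (IrrCharacter G)), IsCharacter G X →
      IsCharacter G Y → (s = 1 ∨ s = -1) → S ⊆ Q.rest → (∀ χ ∈ S, Q.z χ = s) →
      (∀ χ : IrrCharacter G, classInner (X - Y) (χ : G → ℂ) =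
        (s : ℂ) * classInner (Xp - Xm) (χ : G → ℂ)) →
      charDegree X = 2 * (charDegree (Q₁.α : G → ℂ) * charDegree (Q₂.α : G → ℂ)) →
      (∀ g, ¬ p ∣ orderOf g → X g = 2 * ((Q₁.α : G → ℂ) g * conj ((Q₂.α : G → ℂ) g))) →
      ∑ χ ∈ S, charDegree (χ : G → ℂ) + (if Q.σ = s then charDegree (Q.α : G → ℂ) else 0) ≤
        charDegree (Q₁.α : G → ℂ) * charDegree (Q₂.α : G → ℂ) ∧
      (charDegree (Q₁.α : G → ℂ) * charDegree (Q₂.α : G → ℂ) ≤
        ∑ χ ∈ S, charDegree (χ : G → ℂ) + (if Q.σ = s then charDegree (Q.α : G → ℂ) else 0) →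
      ∀ g : G, ¬ p ∣ orderOf g → (Q₁.α : G → ℂ) g * conj ((Q₂.α : G → ℂ) g) =
        ∑ χ ∈ S, (χ : G → ℂ) g + (if Q.σ = s then (Q.α : G → ℂ) g else 0)) := by
    intro X Y s S hX hY hs hS hSz hXY hdX hXreg
    set r : IrrCharacter G → ℕ := fun χ => (if χ ∈ S then 2 else 0) +
      (if χ ∈ (if Q.σ = s then ({Q.α, Q.β} : Finset (IrrCharacter G)) else ∅) then 1 else 0) with hr
    have hrle : ∀ (χ : IrrCharacter G) (m : ℕ), classInner X (χ : G → ℂ) = m → r χ ≤ m := by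
      intro χ m hm
      obtain ⟨n, hn⟩ := Char.classInner_isCharacter_eq_natCast hY (Char.IsIrr.isCharacter χ.2)
      simp only [hr]
      by_cases hχS : χ ∈ S
      · have hnα : χ ∉ ({Q.α, Q.β} : Finset (IrrCharacter G)) := by
          simp only [Finset.mem_insert, Finset.mem_singleton, not_or]
          exact (Q.mem_rest.1 (hS hχS)).2
        have h := classInner_diff (z := 2) (by
          rw [hXY, hrest χ (hS hχS), hSz χ hχS]
          rcases hs with rfl | rfl <;> norm_num) m n hm hn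
        rw [if_pos hχS, if_neg fun h' => hnα (by
          by_cases hσ : Q.σ = s
          · rwa [if_pos hσ] at h'
          · rw [if_neg hσ] at h'; exact absurd h' (Finset.notMem_empty _))]
        omega
      · rw [if_neg hχS, zero_add]
        by_cases h' : χ ∈ (if Q.σ = s then ({Q.α, Q.β} : Finset (IrrCharacter G)) else ∅)
        · rw [if_pos h']
          by_cases hσ : Q.σ = s
          · rw [if_pos hσ] at h'
            have h := classInner_diff (z := 1) (by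
              rw [hXY, hex χ h', hσ]
              rcases hs with rfl | rfl <;> norm_num) m n hm hn
            omega
          · rw [if_neg hσ] at h'; exact absurd h' (Finset.notMem_empty _)
        · rw [if_neg h']; exact Nat.zero_le _
    have hsumN : ∑ χ : IrrCharacter G, r χ * charDegree (χ : G → ℂ) =
        2 * (∑ χ ∈ S, charDegree (χ : G → ℂ) +
          (if Q.σ = s then charDegree (Q.α : G → ℂ) else 0)) := by
      simp only [hr, add_mul, ite_mul, zero_mul, one_mul, Finset.sum_add_distrib,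
        Finset.sum_ite_mem, Finset.univ_inter, ← Finset.mul_sum, mul_add]
      congr 1
      split_ifs with hσ <;> simp [hσ, Finset.sum_pair Q.ne, Q.deg_eq, two_mul]
    obtain ⟨hle, heq⟩ := bound_of_coeff hX r hrle
    rw [hsumN, hdX] at hle heq
    refine ⟨by omega, fun h g hg => ?_⟩
    have h2 := heq (by omega) g
    rw [hXreg g hg] at h2
    have h3 : ∑ χ : IrrCharacter G, (r χ : ℂ) * (χ : G → ℂ) g =
        2 * (∑ χ ∈ S, (χ : G → ℂ) g + (if Q.σ = s then (Q.α : G → ℂ) g else 0)) := by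
      simp only [hr, Nat.cast_add, Nat.cast_ite, Nat.cast_ofNat, Nat.cast_zero, Nat.cast_one,
        add_mul, ite_mul, zero_mul, one_mul, Finset.sum_add_distrib, Finset.sum_ite_mem,
        Finset.univ_inter, ← Finset.mul_sum, mul_add]
      congr 1
      split_ifs with hσ <;> simp [hσ, Finset.sum_pair Q.ne, Q.reg g hg, two_mul]
    rw [h3] at h2
    exact mul_left_cancel₀ two_ne_zero h2
  obtain ⟨h1, h2⟩ := key Xp Xm 1 Q.pos hXpc hXmc (Or.inl rfl) (Finset.filter_subset _ _)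
    (fun χ hχ => (Finset.mem_filter.1 hχ).2) (fun χ => by rw [Int.cast_one, one_mul])
    (hXd _ _ _ _ rfl Q₁.deg_eq rfl Q₂.deg_eq) (fun g hg => by
      simp only [hXp, Pi.add_apply, Pi.mul_apply, Q₁.reg g hg, Q₂.reg g hg]; ring)
  obtain ⟨h3, h4⟩ := key Xm Xp (-1) Q.neg hXmc hXpc (Or.inr rfl) (Finset.filter_subset _ _)
    (fun χ hχ => (Finset.mem_filter.1 hχ).2) (fun χ => by
      rw [Char.classInner_sub_left, Char.classInner_sub_left]; push_cast; ring)
    (hXd _ _ _ _ rfl Q₁.deg_eq Q₂.deg_eq rfl) (fun g hg => by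
      simp only [hXm, Pi.add_apply, Pi.mul_apply, Q₁.reg g hg, Q₂.reg g hg]; ring)
  exact ⟨⟨h1, h3⟩, h2, h4⟩

end Cfsg.Agent.Fg24.HalfDeg
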