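import Cfsg.Agent.Fg24.HalfDeg.Bound
import Cfsg.Agent.Fg24.Brauer.PSL
import Cfsg.Agent.Classical.SmallSimple

/-!
# Faithful characters of degree `(p - 1) / 2`: the group modulo its centre
-/

set_option autoImplicit false
set_option linter.unusedSectionVars false

open Cfsg
open scoped ComplexConjugate Classical

namespace Cfsg.Agent.Fg24.HalfDeg

open Cfsg.Agent.BlockThms.OrderP

universe u

variable {G : Type u} [Group G] [Fintype G] {p : ℕ} [Fact p.Prime] {P : Sylow p G} {e : ℕ}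
  {D : Dat P e}

/-- An element of order dividing `p` in `P Z` lies in `P`. -/
theorem mem_of_mk_mem {w : G} (hw : w ^ p = 1) {v : G} (hv : v ∈ (P : Subgroup G))
    (hvp : v ^ p = 1) (hreg : ¬ p ∣ Nat.card (Subgroup.center G))
    (h : (QuotientGroup.mk w : G ⧸ Subgroup.center G) = QuotientGroup.mk v) :
    w ∈ (P : Subgroup G) := by
  have hz : v⁻¹ * w ∈ Subgroup.center G := QuotientGroup.eq.1 h.symm
  set z := v⁻¹ * w with hzd
  have hwz : w = v * z := by rw [hzd, mul_inv_cancel_left]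
  have hzp : z ^ p = 1 := by
    have hc : Commute v z := Subgroup.mem_center_iff.1 hz v
    have := hw
    rwa [hwz, hc.mul_pow, hvp, one_mul] at this
  by_cases hz1 : z = 1
  · rw [hwz, hz1, mul_one]; exact hv
  · exfalso
    refine hreg ?_
    have h7 := Subgroup.orderOf_dvd_natCard (Subgroup.center G) hz
    rwa [orderOf_eq_prime hzp hz1] at h7

namespace Hyp

variable {ζ : IrrCharacter G} (H : Hyp P ζ) (Q₀ : Couple D) (hQ₀ : Q₀.α = ζ) (hσ₀ : Q₀.σ = -1)
  (hd₀ : charDegree (ζ : G → ℂ) = e)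
include H hQ₀ hσ₀ hd₀

/-- A normal subgroup containing `P` and the centre is everything. -/
theorem eq_top_of_normal {M : Subgroup G} (hM : M.Normal) (hPM : (P : Subgroup G) ≤ M)
    (hZM : Subgroup.center G ≤ M) : M = ⊤ := by
  haveI := hM
  by_contra hne
  have hfr : Subgroup.normalizer ((P : Subgroup G) : Set G) ⊔ M = ⊤ :=
    Sylow.normalizer_sup_eq_top' P hPM
  have hrep : ∀ q : G ⧸ M, ∃ n ∈ Subgroup.normalizer ((P : Subgroup G) : Set G),
      QuotientGroup.mk n = q := by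
    intro q
    obtain ⟨g, rfl⟩ := QuotientGroup.mk_surjective q
    obtain ⟨n, hn, m, hm, rfl⟩ : ∃ n ∈ Subgroup.normalizer ((P : Subgroup G) : Set G),
        ∃ m ∈ M, n * m = g := Subgroup.mem_sup_of_normal_right.1 (hfr ▸ Subgroup.mem_top g)
    exact ⟨n, hn, (QuotientGroup.eq.2 (by rwa [inv_mul_cancel_left]))⟩
  have hab : ∀ a b : G ⧸ M, a * b = b * a := by
    intro a b
    obtain ⟨n, hn, rfl⟩ := hrep a
    obtain ⟨m, hm, rfl⟩ := hrep b
    rw [← QuotientGroup.mk_mul, ← QuotientGroup.mk_mul, eq_comm, QuotientGroup.eq]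
    have hC : (m * n)⁻¹ * (n * m) ∈ Subgroup.centralizer (P : Set G) := by
      rw [← D.setup.centralizer_eq D.x_mem (fun h => (Fact.out : p.Prime).ne_one (by
        rw [← D.x_ord, h, orderOf_one])), Subgroup.mem_centralizer_singleton_iff]
      obtain ⟨v, -, hv⟩ := D.conj_U n hn
      obtain ⟨v', -, hv'⟩ := D.conj_U m hm
      have e1 : (n * m) * pw D.x (1 : ZMod p) * (n * m)⁻¹ =
          (m * n) * pw D.x (1 : ZMod p) * (m * n)⁻¹ := by
        rw [show (n * m) * pw D.x (1 : ZMod p) * (n * m)⁻¹ =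
            n * (m * pw D.x (1 : ZMod p) * m⁻¹) * n⁻¹ by group, hv', hv,
          show (m * n) * pw D.x (1 : ZMod p) * (m * n)⁻¹ =
            m * (n * pw D.x (1 : ZMod p) * n⁻¹) * m⁻¹ by group, hv, hv', mul_left_comm]
      rw [D.pw_one] at e1
      calc (m * n)⁻¹ * (n * m) * D.x = (m * n)⁻¹ * ((n * m) * D.x * (n * m)⁻¹) * (n * m) := by
            group
        _ = (m * n)⁻¹ * ((m * n) * D.x * (m * n)⁻¹) * (n * m) := by rw [e1]
        _ = D.x * ((m * n)⁻¹ * (n * m)) := by group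
    obtain ⟨t, k, hk, htk⟩ := D.dec _ hC
    rw [htk]
    exact mul_mem (hPM (D.pw_mem t)) (hZM hk)
  obtain ⟨g, hg⟩ : ∃ g : G, g ∉ M := by
    by_contra! h
    exact hne (eq_top_iff.2 fun g _ => h g)
  have hgne : (QuotientGroup.mk g : G ⧸ M) ≠ 1 := fun h => hg ((QuotientGroup.eq_one_iff g).1 h)
  obtain ⟨φ, hφ, hφg⟩ : ∃ φ : G ⧸ M → ℂ, IsIrrCharacter (G ⧸ M) φ ∧ φ (QuotientGroup.mk g) ≠ φ 1 := by
    obtain ⟨φ, hφ⟩ := Char.exists_irr_ne_at_one hgne
    exact ⟨φ, φ.2, hφ⟩
  have hd1 : φ 1 = 1 := Char.IsIrr.degree_one_of_comm hφ hab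
  let χ : IrrCharacter G := ⟨fun a => φ (QuotientGroup.mk a), Char.isIrrCharacter_mk M hφ⟩
  have hχ1 : ∀ m ∈ M, (χ : G → ℂ) m = 1 := fun m hm => by
    show φ (QuotientGroup.mk m) = 1
    rw [(QuotientGroup.eq_one_iff m).2 hm, hd1]
  have hχ11 := hχ1 1 (one_mem _)
  have := H.linear_triv Q₀ hQ₀ χ (Blocks.charDegree_eq (by rw [hχ11, Nat.cast_one]))
    (mem_Over.2 fun k hk => by rw [cchar_triv, cchar, hχ1 k (hZM hk), hχ11, div_one])
    (hχ1 _ (hPM (D.pw_mem 1)))
  refine hφg ?_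
  rw [hd1]
  show (χ : G → ℂ) g = 1
  rw [this]
  simp [Blocks.triv]

/-- The quotient by the centre is `PSL(2, p)`. -/
theorem quotient_psl : Nonempty ((G ⧸ Subgroup.center G) ≃*
    Matrix.ProjectiveSpecialLinearGroup (Fin 2) (ZMod p)) := by
  have hp : p.Prime := Fact.out
  set Z := Subgroup.center G with hZ
  have hreg := D.center_reg
  have hN := H.card_sylow Q₀ hQ₀ hσ₀ hd₀
  have hcardq : Nat.card (G ⧸ Z) = p * e * (p + 1) := by
    refine Nat.eq_of_mul_eq_mul_right (Nat.card_pos (α := Z)) ?_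
    rw [← Subgroup.card_eq_card_quotient_mul_card_subgroup, D.card_G, hN, ← hZ]
    ring
  have hxp : D.x ^ p = 1 := orderOf_dvd_iff_pow_eq_one.1 (dvd_of_eq D.x_ord)
  have hnotall : Z ≠ ⊤ := by
    intro h
    have h1 : D.x ∈ Z := h ▸ Subgroup.mem_top _
    refine hreg ?_
    rw [← D.x_ord]
    exact Subgroup.orderOf_dvd_natCard _ h1
  haveI : IsSimpleGroup (G ⧸ Z) := by
    refine { exists_pair_ne := ?_, eq_bot_or_eq_top_of_normal := fun N hN' => ?_ }
    · obtain ⟨g, hg⟩ : ∃ g : G, g ∉ Z := by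
        by_contra! h
        exact hnotall (eq_top_iff.2 fun g _ => h g)
      exact ⟨QuotientGroup.mk g, 1, fun h => hg ((QuotientGroup.eq_one_iff g).1 h)⟩
    set M := N.comap (QuotientGroup.mk' Z) with hM
    have hMn : M.Normal := inferInstance
    have hNM : N = M.map (QuotientGroup.mk' Z) :=
      (Subgroup.map_comap_eq_self_of_surjective (QuotientGroup.mk'_surjective Z) N).symm
    by_cases hd : p ∣ Nat.card M
    · right
      have hPM : (P : Subgroup G) ≤ M := fun x hx =>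
        BlockChar.DegreeBound.mem_of_pow_eq_one (G := G) H.sq M hd (pow_eq_one_of_mem H.card hx)
      have hZM : Z ≤ M := fun z hz => by
        show QuotientGroup.mk' Z z ∈ N
        rw [QuotientGroup.mk'_apply, (QuotientGroup.eq_one_iff z).2 hz]
        exact one_mem N
      rw [hNM, H.eq_top_of_normal Q₀ hQ₀ hσ₀ hd₀ hMn hPM hZM,
        Subgroup.map_top_of_surjective _ (QuotientGroup.mk'_surjective Z)]
    · left
      rw [hNM, Subgroup.map_eq_bot_iff, QuotientGroup.ker_mk']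
      exact H.pPrime_le_center hMn hd
  have hsurj := QuotientGroup.mk'_surjective Z
  set P' := P.mapSurjective hsurj with hP'
  have hcomap : (Subgroup.normalizer (P' : Set (G ⧸ Z))).comap
      (QuotientGroup.mk' Z) = Subgroup.normalizer (P : Set G) := by
    refine le_antisymm (fun g hg => ?_) ?_
    · have hg' := Subgroup.mem_normalizer_iff.1 (Subgroup.mem_comap.1 hg)
      have hmem : QuotientGroup.mk' Z D.x ∈ (P' : Subgroup (G ⧸ Z)) :=
        ⟨D.x, D.x_mem, rfl⟩
      have hinv : (QuotientGroup.mk' Z g)⁻¹ * QuotientGroup.mk' Z D.x * QuotientGroup.mk' Z g ∈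
          (P' : Subgroup (G ⧸ Z)) := by
        refine (hg' _).2 ?_
        simpa [mul_assoc] using hmem
      rw [← map_inv, ← map_mul, ← map_mul] at hinv
      obtain ⟨v, hv, hvw⟩ := hinv
      refine D.setup.mem_normalizer D.x_mem (fun h => hp.ne_one (by
        rw [← D.x_ord, h, orderOf_one])) ?_
      refine mem_of_mk_mem ?_ hv (pow_eq_one_of_mem H.card hv) hreg hvw.symm
      have hcp := conj_pow (i := p) (a := g⁻¹) (b := D.x)
      rw [inv_inv] at hcp
      rw [hcp, hxp, mul_one, inv_mul_cancel]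
    · rw [← Subgroup.map_le_iff_le_comap]
      exact Subgroup.le_normalizer_map _
  have hn' : Nat.card (Sylow p (G ⧸ Z)) = p + 1 := by
    rw [P'.card_eq_index_normalizer, ← hN, P.card_eq_index_normalizer, ← hcomap,
      Subgroup.index_comap_of_surjective _ hsurj]
  obtain ⟨F, iF, iFF, hF, ⟨ψ⟩⟩ := Brauer.PSL.recognition (G := G ⧸ Z) D.half D.two_le hcardq hn'
  haveI : CharP F p := charP_of_card_eq_prime hF
  obtain ⟨E⟩ := Classical.Small.psl_congr (n := 2) (ZMod.ringEquiv F hF).symm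
  exact ⟨ψ.trans E⟩

end Hyp

/-- An irreducible faithful character of degree `(p - 1) / 2`. -/
theorem main_irr {ζ : IrrCharacter G} (H : Hyp P ζ) :
    Nonempty ((G ⧸ Subgroup.center G) ≃*
      Matrix.ProjectiveSpecialLinearGroup (Fin 2) (ZMod p)) := by
  obtain ⟨e, hpe, he, hd, L, ζ', hreg, A, B, hAB, hn, hv⟩ := H.exists_loc
  let D : Dat P e := { L with half := hpe, two_le := he }
  let Q₀ : Couple D :=
    { α := ζ
      β := ζ'
      A := A
      B := B
      σ := -1
      σ_or := Or.inr rfl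
      reg := hreg
      val := fun t ht => (hv t ht).1
      val' := fun t ht => (hv t ht).2
      sum_eq := by rw [hAB, Int.cast_neg, Int.cast_one]
      norm_eq := hn }
  exact H.quotient_psl Q₀ rfl rfl hd

/-- A faithful character of degree `(p - 1) / 2`. -/
theorem main (hdiv : p ∣ Nat.card G) (hsq : ¬ p ^ 2 ∣ Nat.card G)
    (hnn : ∀ H : Subgroup G, H.Normal → Nat.card H ≠ p) (χ : G → ℂ) (hχ : IsCharacter G χ)
    (hfaith : ∀ g : G, χ g = χ 1 → g = 1) (hdeg : 2 * charDegree χ + 1 = p) :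
    Nonempty ((G ⧸ Subgroup.center G) ≃*
      Matrix.ProjectiveSpecialLinearGroup (Fin 2) (ZMod p)) := by
  have hp : p.Prime := Fact.out
  obtain ⟨P⟩ := (inferInstance : Nonempty (Sylow p G))
  have hP : Nat.card (P : Subgroup G) = p := by
    obtain ⟨k, hk⟩ := IsPGroup.iff_card.1 P.isPGroup'
    have h1 : p ∣ Nat.card (P : Subgroup G) := P.dvd_card_of_dvd_card hdiv
    have hk1 : k = 1 := by
      rcases k with _ | _ | k
      · rw [hk, pow_zero] at h1
        exact absurd (Nat.dvd_one.1 h1) hp.ne_one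
      · rfl
      · exact absurd (((pow_dvd_pow p (show 2 ≤ k + 1 + 1 by omega)).trans (dvd_of_eq hk.symm)).trans
          (Subgroup.card_subgroup_dvd_card _)) hsq
    rw [hk, hk1, pow_one]
  have hPn : ¬ (P : Subgroup G).Normal := fun h => hnn _ h hP
  obtain ⟨ψ, hψ0, hψd⟩ : ∃ ψ : IrrCharacter G, classInner χ (ψ : G → ℂ) ≠ 0 ∧
      p ≤ 2 * charDegree (ψ : G → ℂ) + 1 := by
    by_contra! h
    exact hPn (normal_of_small hP hsq hχ hfaith fun ψ hψ => h ψ hψ)
  obtain ⟨hle, heq⟩ := eq_of_constituent hχ ψ hψ0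
  have hχψ : χ = (ψ : G → ℂ) := heq (by omega)
  refine main_irr (P := P) (ζ := ψ) ⟨hP, hsq, hPn, ?_, ?_⟩
  · exact fun g hg => hfaith g (by rw [hχψ]; exact hg)
  · rw [← hχψ]; exact hdeg

end Cfsg.Agent.Fg24.HalfDeg
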