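import Cfsg.Agent.Fg24.HalfDeg.Shape
import Cfsg.Agent.CharArith.Basic

/-!
# Characters over a character of the centre
-/

set_option autoImplicit false
set_option linter.unusedSectionVars false

open Cfsg
open scoped ComplexConjugate Classical

namespace Cfsg.Agent.Fg24.HalfDeg

open Cfsg.Agent.BlockThms.OrderP

universe u

variable {G : Type u} [Group G] [Fintype G]

/-- The irreducible characters with the central character of `ψ`. -/
noncomputable def Over (ψ : IrrCharacter G) : Finset (IrrCharacter G) :=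
  Finset.univ.filter fun χ => ∀ k ∈ Subgroup.center G, cchar χ k = cchar ψ k

theorem mem_Over {ψ χ : IrrCharacter G} :
    χ ∈ Over ψ ↔ ∀ k ∈ Subgroup.center G, cchar χ k = cchar ψ k := by
  simp [Over]

theorem self_mem_Over (ψ : IrrCharacter G) : ψ ∈ Over ψ := mem_Over.2 fun _ _ => rfl

theorem cchar_triv (k : G) : cchar (Blocks.triv G) k = 1 := by simp [cchar, Blocks.triv]

theorem proj (ψ χ : IrrCharacter G) :
    ∑ k : Subgroup.center G, cchar ψ k * conj (cchar χ k) =
      if χ ∈ Over ψ then (Nat.card (Subgroup.center G) : ℂ) else 0 := by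
  split_ifs with h
  · rw [Finset.sum_congr rfl (g := fun _ => (1 : ℂ)) (fun k _ => by
      rw [mem_Over.1 h k k.2, cchar_mul_conj ψ k.2]), Finset.sum_const, Finset.card_univ,
      nsmul_eq_mul, mul_one, Nat.card_eq_fintype_card]
  rw [mem_Over] at h
  push Not at h
  obtain ⟨l, hl, hne⟩ := h
  have h1 : (cchar ψ l * conj (cchar χ l)) * ∑ k : Subgroup.center G, cchar ψ k * conj (cchar χ k) =
      ∑ k : Subgroup.center G, cchar ψ k * conj (cchar χ k) := by
    rw [Finset.mul_sum]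
    refine Fintype.sum_equiv (Equiv.mulLeft (⟨l, hl⟩ : Subgroup.center G)) _ _ fun k => ?_
    simp only [Equiv.coe_mulLeft, Subgroup.coe_mul, cchar_mul ψ hl k.2, cchar_mul χ hl k.2,
      map_mul]
    ring
  have hfac : cchar ψ l * conj (cchar χ l) ≠ 1 := fun e => hne (by
    have h2 := cchar_mul_conj χ hl
    exact (mul_right_cancel₀ (right_ne_zero_of_mul_eq_one h2) (e.trans h2.symm)).symm)
  exact (mul_eq_zero.1 (show (cchar ψ l * conj (cchar χ l) - 1) *
      ∑ k : Subgroup.center G, cchar ψ k * conj (cchar χ k) = 0 by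
    rw [sub_mul, h1, one_mul, sub_self])).resolve_left (sub_ne_zero.2 hfac)

theorem sum_over (ψ : IrrCharacter G) (F : IrrCharacter G → ℂ) :
    ∑ k : Subgroup.center G, cchar ψ k * ∑ χ : IrrCharacter G, F χ * conj (cchar χ k) =
      (Nat.card (Subgroup.center G) : ℂ) * ∑ χ ∈ Over ψ, F χ := by
  simp only [Finset.mul_sum]
  rw [Finset.sum_comm, Finset.sum_congr rfl (g := fun χ => F χ *
    if χ ∈ Over ψ then (Nat.card (Subgroup.center G) : ℂ) else 0) (fun χ _ => by
      rw [← proj ψ χ, Finset.mul_sum]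
      exact Finset.sum_congr rfl fun k _ => by ring)]
  simp only [mul_ite, mul_zero, Finset.sum_ite_mem, Finset.univ_inter, mul_comm]

/-- A structure constant of the centre of the group algebra. -/
noncomputable def multConst (a b g : G) : ℂ :=
  ∑ χ : IrrCharacter G, (χ : G → ℂ) a * (χ : G → ℂ) b * conj ((χ : G → ℂ) g) / (χ : G → ℂ) 1

theorem multConst_nonneg (a b g : G) : ∃ r : ℝ, 0 ≤ r ∧ multConst a b g = (r : ℂ) := by
  have hG : (Nat.card G : ℂ) ≠ 0 := Char.card_ne_zero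
  have hterm : ∀ χ : IrrCharacter G,
      (χ : G → ℂ) a * (χ : G → ℂ) b * conj ((χ : G → ℂ) g) / (χ : G → ℂ) 1 =
      (Nat.card G : ℂ)⁻¹ * ∑ c : G, (χ : G → ℂ) (c * a * c⁻¹ * b) * conj ((χ : G → ℂ) g) := by
    intro χ
    have hd := Char.IsIrr.one_ne_zero χ.2
    have h := CharArith.classMult χ.2 a b
    rw [← Finset.sum_mul]
    field_simp
    linear_combination -(conj ((χ : G → ℂ) g)) * h
  refine ⟨(Nat.card G : ℝ)⁻¹ * ∑ c : G, (if IsConj (c * a * c⁻¹ * b) g then
    (Nat.card (Subgroup.centralizer ({c * a * c⁻¹ * b} : Set G)) : ℝ) else 0), ?_, ?_⟩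
  · refine mul_nonneg (inv_nonneg.2 (Nat.cast_nonneg _)) (Finset.sum_nonneg fun c _ => ?_)
    split_ifs
    · exact Nat.cast_nonneg _
    · exact le_rfl
  · rw [multConst, Finset.sum_congr rfl fun χ _ => hterm χ, ← Finset.mul_sum, Finset.sum_comm]
    push_cast
    congr 1
    refine Finset.sum_congr rfl fun c _ => ?_
    rw [Char.second_orthogonality]
    split_ifs <;> simp

/-- The part of a structure constant over a central character. -/
noncomputable def multOver (ψ : IrrCharacter G) (a b g : G) : ℂ :=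
  ∑ χ ∈ Over ψ, (χ : G → ℂ) a * (χ : G → ℂ) b * conj ((χ : G → ℂ) g) / (χ : G → ℂ) 1

theorem multOver_eq (ψ : IrrCharacter G) (a b g : G) :
    (Nat.card (Subgroup.center G) : ℂ) * multOver ψ a b g =
      ∑ k : Subgroup.center G, cchar ψ k * multConst a b (g * k) := by
  rw [multOver, ← sum_over]
  refine Finset.sum_congr rfl fun k _ => ?_
  rw [multConst]
  congr 1
  refine Finset.sum_congr rfl fun χ _ => ?_
  rw [cchar_apply χ k.2, map_mul]
  ring

/-- The bound by the part over the trivial character. -/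
theorem norm_multOver_le (ψ : IrrCharacter G) (a b g : G) :
    ∃ r : ℝ, 0 ≤ r ∧ multOver (Blocks.triv G) a b g = (r : ℂ) ∧ ‖multOver ψ a b g‖ ≤ r := by
  choose f hf0 hf using fun k : Subgroup.center G => multConst_nonneg a b (g * k)
  have hZ : (0 : ℝ) < Nat.card (Subgroup.center G) := by exact_mod_cast Nat.card_pos
  have hZ' : (Nat.card (Subgroup.center G) : ℂ) ≠ 0 := Nat.cast_ne_zero.2 Nat.card_pos.ne'
  refine ⟨(Nat.card (Subgroup.center G) : ℝ)⁻¹ * ∑ k, f k,
    mul_nonneg (inv_nonneg.2 hZ.le) (Finset.sum_nonneg fun k _ => hf0 k), ?_, ?_⟩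
  · refine mul_left_cancel₀ hZ' ?_
    rw [multOver_eq]
    simp only [cchar_triv, one_mul, hf]
    push_cast
    rw [mul_inv_cancel_left₀ hZ']
  · rw [le_inv_mul_iff₀ hZ]
    have h := congrArg norm (multOver_eq ψ a b g)
    rw [norm_mul, Complex.norm_natCast] at h
    rw [h]
    refine (norm_sum_le _ _).trans (Finset.sum_le_sum fun k _ => ?_)
    rw [norm_mul, cchar_norm ψ k.2, one_mul, hf, Complex.norm_real, Real.norm_eq_abs,
      abs_of_nonneg (hf0 k)]

variable {p : ℕ} [Fact p.Prime] {P : Sylow p G}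

/-- The local structure with an automizer of index two. -/
structure Dat (P : Sylow p G) (e : ℕ) extends Loc P e where
  half : 2 * e + 1 = p
  two_le : 2 ≤ e

namespace Dat

variable {e : ℕ} (D : Dat P e)
include D

theorem U_inv {v : ZMod p} (hv : v ∈ D.U) : v⁻¹ ∈ D.U := by
  have h1 := BlockThms.OrderP.pow_card_eq_one D.unit hv
  have hpow : ∀ j : ℕ, v ^ j ∈ D.U := fun j => by
    induction j with
    | zero => rw [pow_zero]; exact D.unit.one
    | succ j ih => rw [pow_succ]; exact D.unit.mul _ ih _ hv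
  have hc : 0 < D.U.card := Finset.card_pos.2 ⟨_, D.unit.one⟩
  have h2 : v⁻¹ = v ^ (D.U.card - 1) := by
    refine inv_eq_of_mul_eq_one_right ?_
    rw [← pow_succ', Nat.sub_add_cancel hc, h1]
  exact h2 ▸ hpow _

theorem U_sub : D.U ⊆ (Finset.univ : Finset (ZMod p)).erase 0 :=
  fun s hs => Finset.mem_erase.2 ⟨D.unit.ne_zero s hs, Finset.mem_univ _⟩

theorem card_nonU : (((Finset.univ : Finset (ZMod p)).erase 0) \ D.U).card = e := by
  rw [Finset.card_sdiff_of_subset D.U_sub, Finset.card_erase_of_mem (Finset.mem_univ _),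
    Finset.card_univ, ZMod.card, D.U_card]
  have := D.half
  omega

theorem same_iff {s t : ZMod p} (hs : s ≠ 0) (ht : t ≠ 0) :
    (∃ v ∈ D.U, s = v * t) ↔ (s ∈ D.U ↔ t ∈ D.U) := by
  constructor
  · rintro ⟨v, hv, rfl⟩
    refine ⟨fun h => ?_, fun h => D.unit.mul v hv t h⟩
    rw [← inv_mul_cancel_left₀ (D.unit.ne_zero v hv) t]
    exact D.unit.mul _ (D.U_inv hv) _ h
  · intro h
    by_cases htU : t ∈ D.U
    · exact ⟨s * t⁻¹, D.unit.mul s (h.2 htU) _ (D.U_inv htU), (inv_mul_cancel_right₀ ht s).symm⟩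
    have hsub : D.U.image (fun v => v * t) ⊆ ((Finset.univ : Finset (ZMod p)).erase 0) \ D.U := by
      intro q hq
      obtain ⟨v, hv, rfl⟩ := Finset.mem_image.1 hq
      refine Finset.mem_sdiff.2 ⟨Finset.mem_erase.2 ⟨mul_ne_zero (D.unit.ne_zero v hv) ht,
        Finset.mem_univ _⟩, fun hm => htU ?_⟩
      rw [← inv_mul_cancel_left₀ (D.unit.ne_zero v hv) t]
      exact D.unit.mul _ (D.U_inv hv) _ hm
    have h2 := Finset.eq_of_subset_of_card_le hsub (by
      rw [D.card_nonU, Finset.card_image_of_injective _ (mul_left_injective₀ ht), D.U_card])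
    obtain ⟨v, hv, hvs⟩ := Finset.mem_image.1
      (h2.symm ▸ Finset.mem_sdiff.2 ⟨Finset.mem_erase.2 ⟨hs, Finset.mem_univ _⟩,
        fun hsU => htU (h.1 hsU)⟩)
    exact ⟨v, hv, hvs.symm⟩

theorem exists_nonU : ∃ a : ZMod p, a ≠ 0 ∧ a ∉ D.U := by
  have h := D.card_nonU
  obtain ⟨a, ha⟩ := Finset.card_pos.1 (show 0 < (((Finset.univ : Finset (ZMod p)).erase 0) \ D.U).card
    by rw [h]; have := D.two_le; omega)
  exact ⟨a, Finset.ne_of_mem_erase (Finset.mem_sdiff.1 ha).1, (Finset.mem_sdiff.1 ha).2⟩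

/-- A representative of the other class. -/
noncomputable def a : ZMod p := D.exists_nonU.choose

theorem a_spec : D.a ≠ 0 ∧ D.a ∉ D.U := D.exists_nonU.choose_spec

theorem sum_ite (X Y : ℂ) :
    ∑ t ∈ (Finset.univ : Finset (ZMod p)).erase 0, (if t ∈ D.U then X else Y) =
      (e : ℂ) * (X + Y) := by
  rw [Finset.sum_ite, Finset.filter_mem_eq_inter, Finset.inter_eq_right.2 D.U_sub,
    ← Finset.sdiff_eq_filter, Finset.sum_const, Finset.sum_const, D.U_card, D.card_nonU,
    nsmul_eq_mul, nsmul_eq_mul]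
  ring

theorem val_two {φ : G → ℂ} (hφ : IsClassFunction G φ) {t : ZMod p} (ht : t ≠ 0) :
    φ (pw D.x t) = if t ∈ D.U then φ (pw D.x (1 : ZMod p)) else φ (pw D.x D.a) := by
  have key : ∀ s : ZMod p, s ≠ 0 → (t ∈ D.U ↔ s ∈ D.U) → φ (pw D.x t) = φ (pw D.x s) := by
    intro s hs hts
    obtain ⟨v, hv, rfl⟩ := (D.same_iff ht hs).2 hts
    obtain ⟨c, hc⟩ := D.U_conj v hv s
    rw [← hc, hφ]
  split_ifs with h
  · exact key 1 one_ne_zero (iff_of_true h D.unit.one)
  · exact key D.a D.a_spec.1 (iff_of_false h D.a_spec.2)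

theorem isConj_pw {s t : ZMod p} (ht : t ≠ 0) (hs : s ≠ 0) {k : G}
    (hk : k ∈ Subgroup.center G) :
    IsConj (pw D.x t) (pw D.x s * k) ↔ k = 1 ∧ (s ∈ D.U ↔ t ∈ D.U) := by
  have h := D.isConj_iff' (k := 1) ht s (one_mem _) hk
  rw [mul_one, D.same_iff hs ht, eq_comm] at h
  exact h

/-- Orthogonality between two singular classes. -/
theorem orth_sing (ψ : IrrCharacter G) {s t : ZMod p} (ht : t ≠ 0) (hs : s ≠ 0) :
    ∑ χ ∈ Over ψ, (χ : G → ℂ) (pw D.x t) * conj ((χ : G → ℂ) (pw D.x s)) =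
      if (s ∈ D.U ↔ t ∈ D.U) then (p : ℂ) else 0 := by
  refine mul_left_cancel₀ (Nat.cast_ne_zero.2 (Nat.card_pos (α := Subgroup.center G)).ne' :
    (Nat.card (Subgroup.center G) : ℂ) ≠ 0) ?_
  rw [← sum_over]
  rw [Finset.sum_congr rfl (g := fun k : Subgroup.center G => cchar ψ k *
    if k = 1 then (if (s ∈ D.U ↔ t ∈ D.U) then ((p * Nat.card (Subgroup.center G) : ℕ) : ℂ) else 0)
      else 0) (fun k _ => ?_)]
  · simp only [mul_ite, mul_zero, Finset.sum_ite_eq', Finset.mem_univ, if_true,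
      OneMemClass.coe_one, cchar_one]
    split_ifs <;> push_cast <;> ring
  · congr 1
    have hcard := D.card_centralizer ht (one_mem (Subgroup.center G))
    rw [mul_one] at hcard
    rw [Finset.sum_congr rfl (g := fun χ : IrrCharacter G => (χ : G → ℂ) (pw D.x t) *
      conj ((χ : G → ℂ) (pw D.x s * k))) (fun χ _ => by rw [cchar_apply χ k.2, map_mul]; ring),
      Char.second_orthogonality, hcard]
    by_cases hk : k = 1
    · subst hk
      rw [if_pos rfl]
      have hiff := D.isConj_pw (k := 1) ht hs (one_mem _)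
      rw [OneMemClass.coe_one]
      by_cases hq : (s ∈ D.U ↔ t ∈ D.U)
      · rw [if_pos (hiff.2 ⟨rfl, hq⟩), if_pos hq]
      · rw [if_neg fun hc => hq (hiff.1 hc).2, if_neg hq]
    · rw [if_neg hk, if_neg fun hc => hk (Subtype.ext ((D.isConj_pw ht hs k.2).1 hc).1)]

/-- Orthogonality between a singular and a regular class. -/
theorem orth_reg (ψ : IrrCharacter G) {t : ZMod p} (ht : t ≠ 0) {g : G} (hg : ¬ p ∣ orderOf g) :
    ∑ χ ∈ Over ψ, (χ : G → ℂ) (pw D.x t) * conj ((χ : G → ℂ) g) = 0 := by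
  refine mul_left_cancel₀ (Nat.cast_ne_zero.2 (Nat.card_pos (α := Subgroup.center G)).ne' :
    (Nat.card (Subgroup.center G) : ℂ) ≠ 0) ?_
  rw [← sum_over, mul_zero]
  refine Finset.sum_eq_zero fun k _ => ?_
  rw [Finset.sum_congr rfl (g := fun χ : IrrCharacter G => (χ : G → ℂ) (pw D.x t) *
    conj ((χ : G → ℂ) (g * k))) (fun χ _ => by rw [cchar_apply χ k.2, map_mul]; ring),
    Char.second_orthogonality, if_neg, mul_zero]
  intro hc
  obtain ⟨c, hc⟩ := isConj_iff.1 hc
  have hd : p ∣ orderOf (g * k) := by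
    rw [← hc, Blocks.orderOf_conj']
    have := D.singular ht (one_mem (Subgroup.center G))
    rwa [mul_one] at this
  have hk2 : Commute g (k : G) := Subgroup.mem_center_iff.1 k.2 g
  exact (Fact.out : p.Prime).not_dvd_mul hg (D.center_regular k.2)
    (hd.trans hk2.orderOf_mul_dvd_mul_orderOf)

set_option maxHeartbeats 800000 in
/-- A constant value on the nontrivial elements of `P` is `0` or a sign. -/
theorem const_value (hsq : ¬ p ^ 2 ∣ Nat.card G) (χ : IrrCharacter G) {c : ℂ}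
    (hc : ∀ t : ZMod p, t ≠ 0 → (χ : G → ℂ) (pw D.x t) = c) :
    ∃ z : ℤ, c = (z : ℂ) ∧ (z = 0 ∨ z = 1 ∨ z = -1) ∧
      (charDegree (χ : G → ℂ) : ℤ) ≡ z [ZMOD p] := by
  have hp : p.Prime := Fact.out
  obtain ⟨η, hb, hη⟩ := exists_eta D.setup D.x_mem D.x_ord
  have hval := val_eq_sum D.x_mem hb hη χ
  obtain ⟨d, hd⟩ : ∃ d, d = charDegree (χ : G → ℂ) := ⟨_, rfl⟩
  have hd1 : (χ : G → ℂ) 1 = d := by
    rw [hd, Blocks.charDegree_cast (Char.IsIrr.isCharacter χ.2)]
  have hinv : ∀ r : ZMod p, (p : ℂ) * Blocks.resMult χ (η r) =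
      d + c * ((if r = 0 then (p : ℂ) else 0) - 1) := by
    intro r
    rw [← SmallDeg.inversion (fun s => (Blocks.resMult χ (η s) : ℂ)) r,
      Finset.sum_congr rfl (g := fun t => c * psi p (-r * t) + if t = 0 then (d : ℂ) - c else 0)
        (fun t _ => by
          rw [← hval]
          by_cases ht : t = 0
          · subst ht
            rw [if_pos rfl, D.pw_zero, hd1]
            simp only [mul_zero, neg_zero, AddChar.map_zero_eq_one]
            ring
          · rw [if_neg ht, add_zero, hc t ht, neg_mul])]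
    rw [Finset.sum_add_distrib, ← Finset.mul_sum, sum_psi, Finset.sum_ite_eq',
      if_pos (Finset.mem_univ _)]
    simp only [neg_eq_zero]
    ring
  obtain ⟨z, hzc, hzd⟩ : ∃ z : ℤ, c = (z : ℂ) ∧ (d : ℤ) ≡ z [ZMOD p] := by
    refine ⟨(Blocks.resMult χ (η 0) : ℤ) - Blocks.resMult χ (η 1), ?_, ?_⟩
    · refine mul_left_cancel₀ D.p_ne ?_
      push_cast
      rw [mul_sub, hinv, hinv, if_pos rfl, if_neg one_ne_zero]
      ring
    · rw [Int.modEq_iff_dvd]
      refine ⟨-(Blocks.resMult χ (η 1) : ℤ), Int.cast_injective (α := ℂ) ?_⟩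
      have h1 := hinv 1
      have h0 := hinv 0
      rw [if_neg one_ne_zero] at h1
      rw [if_pos rfl] at h0
      refine mul_left_cancel₀ D.p_ne ?_
      push_cast
      linear_combination h0 + ((p : ℂ) - 1) * h1
  refine ⟨z, hzc, ?_, hd ▸ hzd⟩
  obtain ⟨M, hM⟩ := Blocks.exists_isPModular p hp
  by_cases hdp : p ∣ d
  · left
    have hcod : ¬ p ∣ Nat.card G / d := by
      intro h
      refine hsq ?_
      rw [sq, ← Nat.mul_div_cancel' (Char.IsIrr.degree_dvd_card χ.2 hd1)]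
      exact mul_dvd_mul hdp h
    have h0 : (χ : G → ℂ) (pw D.x (1 : ZMod p)) = 0 :=
      BlockThms.eq_zero_of_not_dvd_codegree hM χ (hd ▸ hcod) fun hreg => hreg (by
        have := D.singular one_ne_zero (one_mem (Subgroup.center G))
        rwa [mul_one] at this)
    rw [hc 1 one_ne_zero, hzc] at h0
    exact_mod_cast h0
  have hcC : ∀ a ∈ Subgroup.centralizer (P : Set G), ∀ b ∈ Subgroup.centralizer (P : Set G),
      a * b = b * a := by
    intro a ha b hb
    obtain ⟨t, k, hk, rfl⟩ := D.dec a ha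
    obtain ⟨s, l, hl, rfl⟩ := D.dec b hb
    calc pw D.x t * k * (pw D.x s * l) = pw D.x t * (k * pw D.x s) * l := by group
      _ = pw D.x t * (pw D.x s * k) * l := by rw [Subgroup.mem_center_iff.1 hk (pw D.x s)]
      _ = (pw D.x t * pw D.x s) * (k * l) := by group
      _ = (pw D.x s * pw D.x t) * (l * k) := by
        rw [← pw_add D.x_ord, ← pw_add D.x_ord, add_comm, Subgroup.mem_center_iff.1 hl k]
      _ = pw D.x s * (pw D.x t * l) * k := by group
      _ = pw D.x s * (l * pw D.x t) * k := by rw [Subgroup.mem_center_iff.1 hl (pw D.x t)]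
      _ = pw D.x s * l * (pw D.x t * k) := by group
  have hfix : ∀ g ∈ Subgroup.normalizer (P : Set G), ∀ z ∈ Subgroup.centralizer (P : Set G),
      ¬ p ∣ orderOf z → g * z * g⁻¹ = z := by
    intro g _ z hz hzr
    obtain ⟨t, k, hk, rfl⟩ := D.dec z hz
    have ht : t = 0 := by_contra fun ht => hzr (D.singular ht hk)
    rw [ht, D.pw_zero, one_mul, Subgroup.mem_center_iff.1 hk g, mul_inv_cancel_right]
  obtain ⟨c', hmax⟩ := BlockChar.PrimeShape.exists_maximal_pair D.setup.card hsq hM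
    (χ := χ) (hd ▸ hdp)
  obtain ⟨η₀, k, hk, hkval, hbd⟩ := BlockChar.Cyclic.exists_orbit_values_of_maximal hM hmax
    D.setup.card hsq (Blocks.mem_blockOf_self hM χ)
  obtain ⟨r, rfl⟩ := hb.2 η₀
  have hout : ∀ s, (∀ v ∈ D.U, s ≠ r * v) → k (η s) = 0 := by
    intro s hs
    by_contra hne
    obtain ⟨g, hg, hge⟩ := hk _ hne
    obtain ⟨v, hv, hv'⟩ := orb_eta D.setup D.x_mem D.x_ord D.conj_U hb hη
      (BlockChar.PrimeShape.mem_orb.2 ⟨g, hg, hge⟩)
    exact hs v hv hv'
  have hkv : ∀ t : ZMod p, t ≠ 0 → c = ∑ s, k (η s) * psi p (s * t) := by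
    intro t ht
    rw [← hc t ht]
    have h := hkval ⟨pw D.x t, D.pw_mem t⟩ (D.pw_ne ht)
    refine h.trans ?_
    exact (Fintype.sum_bijective η hb _ _ fun s => by rw [hη s t ⟨pw D.x t, D.pw_mem t⟩ rfl]).symm
  by_cases hr : r = 0
  · subst hr
    have h1 := hkv 1 one_ne_zero
    rw [Finset.sum_eq_single 0 (fun s _ hs => by
      rw [hout s (fun v _ h => hs (by rw [h, zero_mul])), zero_mul])
      (fun h => absurd (Finset.mem_univ _) h), zero_mul, AddChar.map_zero_eq_one, mul_one] at h1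
    have h2 := hbd hcC hfix fun w => by
      obtain ⟨t, ht⟩ := D.setup.exists_pw D.x_mem D.x_ord w.2
      rw [hη 0 t w ht.symm, zero_mul, AddChar.map_zero_eq_one]
    rw [← h1, hzc, Complex.norm_intCast] at h2
    have h3 : |z| ≤ 1 := by exact_mod_cast h2
    rw [abs_le] at h3
    omega
  · left
    set F₀ : ℂ := ∑ s, k (η s) - c with hF₀
    have hF : ∀ q : ZMod p, (p : ℂ) * (k (η q) - if q = 0 then c else 0) = F₀ := by
      intro q
      have h := SmallDeg.inversion (fun s => k (η s) - if s = 0 then c else 0) q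
      rw [← h, Finset.sum_eq_single (0 : ZMod p) (fun t _ ht => ?_)
        (fun h => absurd (Finset.mem_univ _) h)]
      · simp only [mul_zero, neg_zero, AddChar.map_zero_eq_one, mul_one, Finset.sum_sub_distrib,
          Finset.sum_ite_eq', Finset.mem_univ, if_true, hF₀]
      · simp only [sub_mul, Finset.sum_sub_distrib, ite_mul, zero_mul, Finset.sum_ite_eq',
          Finset.mem_univ, if_true, zero_mul, AddChar.map_zero_eq_one, mul_one, ← hkv t ht,
          sub_self]
    obtain ⟨q, hq0, hq⟩ : ∃ q : ZMod p, q ≠ 0 ∧ ∀ v ∈ D.U, q ≠ r * v := by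
      refine ⟨r * D.a, mul_ne_zero hr D.a_spec.1, fun v hv h => D.a_spec.2 ?_⟩
      exact mul_left_cancel₀ hr h ▸ hv
    have h1 := hF q
    rw [hout q hq, if_neg hq0, sub_zero, mul_zero] at h1
    have h2 := hF 0
    rw [← h1, hout 0 fun v hv => (mul_ne_zero hr (D.unit.ne_zero v hv)).symm, if_pos rfl, zero_sub,
      mul_eq_zero, neg_eq_zero, hzc] at h2
    exact_mod_cast h2.resolve_left D.p_ne

end Dat

/-- Two exceptional characters. -/
structure Couple {e : ℕ} (D : Dat P e) where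
  α : IrrCharacter G
  β : IrrCharacter G
  A : ℂ
  B : ℂ
  σ : ℤ
  σ_or : σ = 1 ∨ σ = -1
  reg : ∀ g : G, ¬ p ∣ orderOf g → (β : G → ℂ) g = (α : G → ℂ) g
  val : ∀ t : ZMod p, t ≠ 0 → (α : G → ℂ) (pw D.x t) = if t ∈ D.U then A else B
  val' : ∀ t : ZMod p, t ≠ 0 → (β : G → ℂ) (pw D.x t) = if t ∈ D.U then B else A
  sum_eq : A + B = (σ : ℂ)
  norm_eq : Complex.normSq (A - B) = (p : ℝ)

namespace Couple

variable {e : ℕ} {D : Dat P e} (Q : Couple D)
include Q

theorem diff_mul_conj : (Q.A - Q.B) * conj (Q.A - Q.B) = (p : ℂ) := by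
  rw [Complex.mul_conj, Q.norm_eq, Complex.ofReal_natCast]

theorem half' : (p : ℂ) = 2 * (e : ℂ) + 1 := by
  have := D.half
  exact_mod_cast this.symm

theorem sum_mul_conj : (Q.A + Q.B) * conj (Q.A + Q.B) = 1 := by
  rw [Q.sum_eq, map_intCast]
  rcases Q.σ_or with h | h <;> simp [h]

theorem sq_sum : Q.A * conj Q.A + Q.B * conj Q.B = (e : ℂ) + 1 := by
  have h1 := Q.diff_mul_conj
  have h2 := Q.sum_mul_conj
  simp only [map_sub, map_add] at h1 h2
  linear_combination (1 / 2 : ℂ) * h1 + (1 / 2 : ℂ) * h2 + (1 / 2 : ℂ) * Q.half'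

theorem cross : Q.A * conj Q.B + Q.B * conj Q.A = -(e : ℂ) := by
  have h1 := Q.diff_mul_conj
  have h2 := Q.sum_mul_conj
  simp only [map_sub, map_add] at h1 h2
  linear_combination (-1 / 2 : ℂ) * h1 + (1 / 2 : ℂ) * h2 - (1 / 2 : ℂ) * Q.half'

theorem A_ne : Q.A ≠ Q.B := fun h => by
  have h1 := Q.diff_mul_conj
  rw [h, sub_self, zero_mul] at h1
  exact D.p_ne h1.symm

theorem ne : Q.α ≠ Q.β := fun h => Q.A_ne (by
  have h1 := Q.val 1 one_ne_zero
  rw [h, Q.val' 1 one_ne_zero, if_pos D.unit.one, if_pos D.unit.one] at h1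
  exact h1.symm)

theorem not_one : ¬ p ∣ orderOf (1 : G) := by
  rw [orderOf_one]; exact (Fact.out : p.Prime).not_dvd_one

theorem cc {k : G} (hk : k ∈ Subgroup.center G) : cchar Q.β k = cchar Q.α k := by
  rw [cchar, cchar, Q.reg k (D.center_regular hk), Q.reg 1 Q.not_one]

theorem β_mem : Q.β ∈ Over Q.α := mem_Over.2 fun _ hk => Q.cc hk

theorem deg_eq : charDegree (Q.β : G → ℂ) = charDegree (Q.α : G → ℂ) := by
  rw [charDegree, charDegree, Q.reg 1 Q.not_one]

theorem out_const {χ : IrrCharacter G} (h : χ ∈ Over Q.α) (ha : χ ≠ Q.α) (hb : χ ≠ Q.β)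
    {t : ZMod p} (ht : t ≠ 0) :
    (χ : G → ℂ) (pw D.x t) = (χ : G → ℂ) (pw D.x (1 : ZMod p)) := by
  have hχ := Char.isClassFunction_of_isIrr χ.2
  rw [D.val_two hχ ht]
  split_ifs with hU
  · rfl
  have h1 := D.classInner_singular hχ (ψ := (Q.α : G → ℂ) - (Q.β : G → ℂ))
    (fun g k => by simp [Char.isClassFunction_of_isIrr Q.α.2 g k,
      Char.isClassFunction_of_isIrr Q.β.2 g k])
    (fun g hg => Or.inr (by simp [Q.reg g hg]))
  rw [Char.classInner_sub_right, Char.classInner_irrChar, Char.classInner_irrChar, if_neg ha,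
    if_neg hb, sub_zero, mul_zero] at h1
  have hfib : ∀ t : ZMod p, ∑ k : Subgroup.center G, (χ : G → ℂ) (pw D.x t * k) *
      conj (((Q.α : G → ℂ) - (Q.β : G → ℂ)) (pw D.x t * k)) =
      (Nat.card (Subgroup.center G) : ℂ) * ((χ : G → ℂ) (pw D.x t) *
        conj ((Q.α : G → ℂ) (pw D.x t) - (Q.β : G → ℂ) (pw D.x t))) := by
    intro t
    rw [Finset.sum_congr rfl (g := fun _ => (χ : G → ℂ) (pw D.x t) *
      conj ((Q.α : G → ℂ) (pw D.x t) - (Q.β : G → ℂ) (pw D.x t))) (fun k _ => ?_),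
      Finset.sum_const, Finset.card_univ, nsmul_eq_mul, Nat.card_eq_fintype_card]
    simp only [Pi.sub_apply]
    rw [cchar_apply χ k.2, cchar_apply Q.α k.2, cchar_apply Q.β k.2, Q.cc k.2,
      mem_Over.1 h k k.2, ← mul_sub, map_mul, mul_mul_mul_comm, cchar_mul_conj Q.α k.2, one_mul]
  rw [Finset.sum_congr rfl fun t _ => hfib t, ← Finset.mul_sum, eq_comm, mul_eq_zero,
    ← Finset.add_sum_erase _ _ (Finset.mem_univ (0 : ZMod p)), D.pw_zero, Q.reg 1 Q.not_one,
    sub_self, map_zero, mul_zero, zero_add,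
    Finset.sum_congr rfl (g := fun t => if t ∈ D.U then
      (χ : G → ℂ) (pw D.x (1 : ZMod p)) * conj (Q.A - Q.B)
      else (χ : G → ℂ) (pw D.x D.a) * conj (Q.B - Q.A)) (fun t ht => by
        have ht' := Finset.ne_of_mem_erase ht
        rw [D.val_two hχ ht', Q.val t ht', Q.val' t ht']
        split_ifs <;> rfl), D.sum_ite] at h1
  have h2 := (mul_eq_zero.1 (h1.resolve_left (Nat.cast_ne_zero.2 Nat.card_pos.ne'))).resolve_left
    (Nat.cast_ne_zero.2 (by have := D.two_le; omega))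
  have h3 : ((χ : G → ℂ) (pw D.x D.a) - (χ : G → ℂ) (pw D.x (1 : ZMod p))) *
      conj (Q.B - Q.A) = 0 := by
    simp only [map_sub] at h2 ⊢
    linear_combination h2
  refine sub_eq_zero.1 ((mul_eq_zero.1 h3).resolve_right fun hc => Q.A_ne ?_)
  rw [map_eq_zero] at hc
  exact (sub_eq_zero.1 hc).symm

end Couple

end Cfsg.Agent.Fg24.HalfDeg
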