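import Cfsg.Agent.Fg24.HalfDeg.Loc

/-!
# The restriction to `P`, and the local structure
-/

set_option autoImplicit false
set_option linter.unusedSectionVars false

open Cfsg
open scoped ComplexConjugate Classical

namespace Cfsg.Agent.Fg24.HalfDeg

open Cfsg.Agent.BlockThms.OrderP

universe u

variable {G : Type u} [Group G] [Fintype G] {p : ℕ} [Fact p.Prime] {P : Sylow p G}

/-- The linear characters of `P` in coordinates. -/
theorem exists_eta {e : ℕ} (hS : Setup P e) {x : G} (hx : x ∈ (P : Subgroup G))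
    (hxo : orderOf x = p) :
    ∃ η : ZMod p → IrrCharacter (P : Subgroup G), Function.Bijective η ∧
      ∀ (s t : ZMod p) (w : (P : Subgroup G)), (w : G) = pw x t →
        (η s : ↥(P : Subgroup G) → ℂ) w = psi p (s * t) := by
  have hlg : ∀ t : ZMod p, lg x (pw x t) = t := fun t => lg_pw hxo t
  let η : ZMod p → IrrCharacter (P : Subgroup G) := fun s =>
    ⟨fun w => (((MonoidHom.toHomUnits
      ({ toFun := fun w => psi p (s * lg x (w : G))
         map_one' := by
          have h : ((1 : (P : Subgroup G)) : G) = pw x (0 : ZMod p) := by simp [pw]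
          rw [h, hlg, mul_zero, AddChar.map_zero_eq_one]
         map_mul' := fun u v => by
          obtain ⟨t, ht⟩ := hS.exists_pw hx hxo u.2
          obtain ⟨t', ht'⟩ := hS.exists_pw hx hxo v.2
          rw [Subgroup.coe_mul, ← ht, ← ht', ← pw_add hxo, hlg, hlg, hlg, mul_add,
            AddChar.map_add_eq_mul] } : (P : Subgroup G) →* ℂ)) w : ℂˣ) : ℂ),
      Char.isIrrCharacter_hom _⟩
  have hη : ∀ (s t : ZMod p) (w : (P : Subgroup G)), (w : G) = pw x t →
      (η s : ↥(P : Subgroup G) → ℂ) w = psi p (s * t) := fun s t w hw => by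
    show psi p (s * lg x (w : G)) = _
    rw [hw, hlg]
  refine ⟨η, (Fintype.bijective_iff_injective_and_card η).2 ⟨fun s s' h => ?_, by
      rw [ZMod.card, BlockChar.PrimeShape.card_irr hS.card]⟩, hη⟩
  have h2 := congrArg (fun f : IrrCharacter (P : Subgroup G) =>
    (f : ↥(P : Subgroup G) → ℂ) ⟨pw x (1 : ZMod p), pow_mem hx _⟩) h
  simp only [hη _ 1 ⟨pw x (1 : ZMod p), pow_mem hx _⟩ rfl, mul_one] at h2
  exact ZMod.injective_stdAddChar h2

/-- The values on `P` in terms of the multiplicities. -/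
theorem val_eq_sum {x : G} (hx : x ∈ (P : Subgroup G))
    {η : ZMod p → IrrCharacter (P : Subgroup G)} (hb : Function.Bijective η)
    (hη : ∀ (s t : ZMod p) (w : (P : Subgroup G)), (w : G) = pw x t →
      (η s : ↥(P : Subgroup G) → ℂ) w = psi p (s * t))
    (χ : IrrCharacter G) (t : ZMod p) :
    (χ : G → ℂ) (pw x t) = ∑ s, (Blocks.resMult χ (η s) : ℂ) * psi p (s * t) := by
  have hw : pw x t ∈ (P : Subgroup G) := pow_mem hx _
  rw [show (χ : G → ℂ) (pw x t) = (χ : G → ℂ) ((⟨pw x t, hw⟩ : (P : Subgroup G)) : G) from rfl,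
    Blocks.res_eq_sum_resMult χ]
  exact (Fintype.sum_bijective η hb _ _ fun s => by rw [hη s t ⟨pw x t, hw⟩ rfl]).symm

/-- A twist of a linear character in coordinates. -/
theorem twist_eta {e : ℕ} (hS : Setup P e) {x : G} (hx : x ∈ (P : Subgroup G))
    (hxo : orderOf x = p) {η : ZMod p → IrrCharacter (P : Subgroup G)}
    (hη : ∀ (s t : ZMod p) (w : (P : Subgroup G)), (w : G) = pw x t →
      (η s : ↥(P : Subgroup G) → ℂ) w = psi p (s * t))
    {m : G} (hm : m ∈ Subgroup.normalizer (P : Set G)) {v : ZMod p}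
    (hv : ∀ t : ZMod p, m * pw x t * m⁻¹ = pw x (v * t)) (s : ZMod p) :
    BlockChar.Cyclic.twistIrr (η s) hm = η (s * v) := by
  refine Subtype.ext (funext fun w => ?_)
  obtain ⟨t, ht⟩ := hS.exists_pw hx hxo w.2
  rw [BlockChar.Cyclic.twistIrr_apply _ hm w ⟨pw x (v * t), pow_mem hx _⟩
      (by show pw x (v * t) = m * (w : G) * m⁻¹; rw [← ht, hv]),
    hη _ (v * t) ⟨pw x (v * t), pow_mem hx _⟩ rfl, hη _ t w ht.symm, mul_assoc]

theorem orb_eta {e : ℕ} (hS : Setup P e) {x : G} (hx : x ∈ (P : Subgroup G))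
    (hxo : orderOf x = p) {U : Finset (ZMod p)}
    (hUN : ∀ n ∈ Subgroup.normalizer (P : Set G), ∃ v ∈ U, ∀ t : ZMod p,
      n * pw x t * n⁻¹ = pw x (v * t))
    {η : ZMod p → IrrCharacter (P : Subgroup G)} (hb : Function.Bijective η)
    (hη : ∀ (s t : ZMod p) (w : (P : Subgroup G)), (w : G) = pw x t →
      (η s : ↥(P : Subgroup G) → ℂ) w = psi p (s * t))
    {r s : ZMod p} (h : η s ∈ BlockChar.PrimeShape.orb (η r)) : ∃ v ∈ U, s = r * v := by
  obtain ⟨m, hm, he⟩ := BlockChar.PrimeShape.mem_orb.1 h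
  obtain ⟨v, hv, hvt⟩ := hUN m hm
  rw [twist_eta hS hx hxo hη hm hvt] at he
  exact ⟨v, hv, hb.1 he⟩

/-- Exponents acting as a given unit on `P` and trivially on regular elements. -/
theorem exists_exp (hP : Nat.card (P : Subgroup G) = p) (hsq : ¬ p ^ 2 ∣ Nat.card G)
    {u : ZMod p} (hu : u ≠ 0) :
    ∃ k : ℕ, k.Coprime (Nat.card G) ∧ (k : ZMod p) = u ∧
      ∀ g : G, ¬ p ∣ orderOf g → g ^ k = g := by
  have hp : p.Prime := Fact.out
  obtain ⟨m, hm⟩ : p ∣ Nat.card G := hP ▸ (P : Subgroup G).card_subgroup_dvd_card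
  have hpm : ¬ p ∣ m := fun h => hsq (by rw [hm, sq]; exact mul_dvd_mul_left p h)
  have hcop : p.Coprime m := hp.coprime_iff_not_dvd.2 hpm
  obtain ⟨k, hk1, hk2⟩ := Nat.chineseRemainder hcop u.val 1
  have hku : (k : ZMod p) = u := by
    rw [(ZMod.natCast_eq_natCast_iff _ _ _).2 hk1, ZMod.natCast_zmod_val]
  refine ⟨k, ?_, hku, fun g hg => ?_⟩
  · rw [hm]
    refine Nat.Coprime.mul_right ?_ ?_
    · rw [Nat.coprime_comm, hp.coprime_iff_not_dvd]
      intro h
      rw [← ZMod.natCast_eq_zero_iff, hku] at h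
      exact hu h
    · rw [Nat.coprime_iff_gcd_eq_one, hk2.gcd_eq, Nat.gcd_one_left]
  · have hd : orderOf g ∣ m := ((hp.coprime_iff_not_dvd.2 hg).symm).dvd_of_dvd_mul_left
      (hm ▸ orderOf_dvd_natCard g)
    rw [show g ^ k = g ^ 1 from pow_eq_pow_iff_modEq.2 (hk2.of_dvd hd), pow_one]

/-- The regular elements centralizing `P` are central. -/
theorem central_of_regular {ζ ζ' : IrrCharacter G} (H : Hyp P ζ) (hne : (P : Subgroup G) ≠ ⊤)
    (hreg : ∀ g : G, ¬ p ∣ orderOf g → (ζ' : G → ℂ) g = (ζ : G → ℂ) g)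
    (horth : ∑ w : (P : Subgroup G), (ζ : G → ℂ) (w : G) * conj ((ζ' : G → ℂ) (w : G)) = 0)
    {y : G} (hy : y ∈ Subgroup.centralizer (P : Set G)) (hyr : ¬ p ∣ orderOf y) :
    y ∈ Subgroup.center G := by
  have hp : p.Prime := Fact.out
  obtain ⟨M, hM⟩ := Blocks.exists_isPModular p hp
  set φ₀ : G → ℂ := (ζ : G → ℂ) * fun a => conj ((ζ : G → ℂ) a) with hφ₀
  set φ : G → ℂ := (ζ : G → ℂ) * fun a => conj ((ζ' : G → ℂ) a) with hφ
  have hφ₀c : IsCharacter G φ₀ :=
    Char.isCharacter_mul (Char.IsIrr.isCharacter ζ.2)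
      (Char.isCharacter_conj (Char.IsIrr.isCharacter ζ.2))
  have hφc : IsCharacter G φ :=
    Char.isCharacter_mul (Char.IsIrr.isCharacter ζ.2)
      (Char.isCharacter_conj (Char.IsIrr.isCharacter ζ'.2))
  obtain ⟨a, ha, hexp₀, -⟩ := exists_coeff hφ₀c
  obtain ⟨b, hb, hexp, -⟩ := exists_coeff hφc
  obtain ⟨tr, htr⟩ := BlockChar.DegreeBound.exists_trivIrr (P : Subgroup G)
  have hTsum : ∀ ψ : IrrCharacter G, ∑ w : (P : Subgroup G), (ψ : G → ℂ) (w : G) =
      (p : ℂ) * (Blocks.resMult ψ tr : ℂ) := fun ψ => by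
    rw [BlockChar.DegreeBound.sum_eq_mult _ ψ htr, H.card]
  have hT0 : ∀ ψ, b ψ ≠ 0 → Blocks.resMult ψ tr = 0 := by
    have h1 : ∑ w : (P : Subgroup G), φ (w : G) = 0 := horth
    simp only [hexp] at h1
    rw [Finset.sum_comm] at h1
    simp only [← Finset.mul_sum, hTsum] at h1
    rw [Finset.sum_congr rfl (g := fun ψ => (p : ℂ) * ((b ψ * Blocks.resMult ψ tr : ℕ) : ℂ))
      (fun ψ _ => by push_cast; ring), ← Finset.mul_sum, ← Nat.cast_sum, mul_eq_zero,
      Nat.cast_eq_zero, Nat.cast_eq_zero] at h1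
    intro ψ hψ
    exact (Nat.mul_eq_zero.1 (Finset.sum_eq_zero_iff.1 (h1.resolve_left hp.ne_zero) ψ
      (Finset.mem_univ _))).resolve_left hψ
  have hatriv : a (Blocks.triv G) = 1 := by
    have h := ha (Blocks.triv G)
    rw [show classInner φ₀ ((Blocks.triv G : IrrCharacter G) : G → ℂ) =
      classInner (ζ : G → ℂ) (ζ : G → ℂ) by simp [classInner, hφ₀, Blocks.triv],
      Char.classInner_irr_self ζ.2] at h
    exact_mod_cast h.symm
  obtain ⟨ψ, hψB, hψb⟩ : ∃ ψ ∈ Cfsg.principalBlock M G, b ψ ≠ 0 := by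
    by_contra! hall
    have hB0 := Blocks.isPBlock_principalBlock (G := G) M
    have h := BlockChar.DegreeBound.blockPart_one_eq_zero hM hB0 (F := fun z => φ₀ z - φ z)
      fun z hz => by simp [hφ₀, hφ, hreg z hz]
    have e1 : ∀ ψ : IrrCharacter G,
        classInner (fun z => φ₀ z - φ z) (ψ : G → ℂ) = (a ψ : ℂ) - (b ψ : ℂ) := fun ψ => by
      rw [← ha, ← hb]
      simp only [classInner, sub_mul, Finset.sum_sub_distrib, mul_sub]
    rw [finsum_mem_eq_finite_toFinset_sum _ (Set.toFinite _),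
      Finset.sum_congr rfl (g := fun ψ => ((a ψ * charDegree (ψ : G → ℂ) : ℕ) : ℂ))
        fun ψ hψ => by
          rw [e1, hall ψ ((Set.Finite.mem_toFinset _).1 hψ), Nat.cast_zero, sub_zero, Nat.cast_mul,
            Blocks.charDegree_cast (Char.IsIrr.isCharacter ψ.2)],
      ← Nat.cast_sum, Nat.cast_eq_zero, Finset.sum_eq_zero_iff] at h
    have h2 := h (Blocks.triv G) ((Set.Finite.mem_toFinset _).2
      (Blocks.triv_mem_principalBlock hM))
    rw [hatriv, one_mul] at h2
    exact (Blocks.charDegree_pos (Blocks.triv G).2).ne' h2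
  have hT' : ∑ w : (P : Subgroup G), (ψ : G → ℂ) (w : G) = 0 := by
    rw [hTsum, hT0 ψ hψb, Nat.cast_zero, mul_zero]
  have hyker := BlockChar.DegreeBound.eq_degree_of_no_invariants H.card hM H.sq hψB hT' hy hyr
  set K := Char.kerSubgroup (Char.IsIrr.isCharacter ψ.2) with hK
  refine H.pPrime_le_center (M := K) inferInstance (fun hd => ?_) ((Char.mem_kerSubgroup _).2 hyker)
  rw [Finset.sum_congr rfl (g := fun _ => (ψ : G → ℂ) 1) (fun w _ =>
    (Char.mem_kerSubgroup _).1 (BlockChar.DegreeBound.mem_of_pow_eq_one (G := G) H.sq K hd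
      (pow_eq_one_of_mem H.card w.2))), Finset.sum_const, nsmul_eq_mul, mul_eq_zero] at hT'
  exact hT'.elim (fun h => Fintype.card_pos.ne' (Nat.cast_eq_zero.1 h))
    (Char.IsIrr.one_ne_zero ψ.2)

namespace Hyp

variable {ζ : IrrCharacter G} (H : Hyp P ζ)
include H

/-- Elements of absolute value `ζ(1)` are central. -/
theorem mem_center_of_norm {g : G} (h : ‖(ζ : G → ℂ) g‖ = charDegree (ζ : G → ℂ)) :
    g ∈ Subgroup.center G := by
  obtain ⟨n, ρ, -, hρ⟩ := ζ.2
  have hn : (charDegree (ζ : G → ℂ) : ℝ) = (Module.finrank ℂ (Fin n → ℂ) : ℝ) := by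
    have h : (charDegree (ζ : G → ℂ) : ℂ) = (Module.finrank ℂ (Fin n → ℂ) : ℂ) := by
      rw [Blocks.charDegree_cast (Char.IsIrr.isCharacter ζ.2), ← hρ, ρ.char_one]
    exact_mod_cast h
  obtain ⟨ω, hω, -⟩ := Char.scalar_of_norm_character_eq ρ g (by rw [hρ, h, hn])
  refine Subgroup.mem_center_iff.2 fun a => ?_
  refine mul_inv_eq_one.1 (H.faith _ ?_)
  rw [← hρ]
  show LinearMap.trace ℂ _ (ρ (a * g * (g * a)⁻¹)) = LinearMap.trace ℂ _ (ρ 1)
  have h2 : ρ (a * g) = ρ (g * a) := by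
    rw [map_mul, map_mul, hω, smul_mul_assoc, mul_smul_comm]
    exact congrArg (ω • ·) ((mul_one (ρ a)).trans (one_mul (ρ a)).symm)
  rw [map_mul, h2, ← map_mul, mul_inv_cancel]

theorem five_le : 5 ≤ p := by
  have hp : p.Prime := Fact.out
  have hd := H.deg
  by_contra h
  have hpos : 0 < charDegree (ζ : G → ℂ) := Blocks.charDegree_pos ζ.2
  have hd1 : charDegree (ζ : G → ℂ) = 1 := by omega
  refine H.nn ⟨fun w hw g => ?_⟩
  obtain ⟨f, hf⟩ := Char.IsChar.exists_hom (Char.IsIrr.isCharacter ζ.2) (by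
    rw [← Blocks.charDegree_cast (Char.IsIrr.isCharacter ζ.2), hd1, Nat.cast_one])
  have : g * w * g⁻¹ * w⁻¹ = 1 := H.faith _ (by
    rw [hf]
    show ((f (g * w * g⁻¹ * w⁻¹) : ℂˣ) : ℂ) = ((f 1 : ℂˣ) : ℂ)
    congr 1
    rw [map_mul, map_mul, map_mul, map_inv, map_inv, map_one]
    simp [mul_comm (f g)])
  rw [mul_inv_eq_one.1 this]
  exact hw

set_option maxHeartbeats 1000000 in
/-- The local structure and the values on `P`. -/
theorem exists_loc : ∃ e : ℕ, 2 * e + 1 = p ∧ 2 ≤ e ∧ charDegree (ζ : G → ℂ) = e ∧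
    ∃ L : Loc P e, ∃ ζ' : IrrCharacter G,
      (∀ g : G, ¬ p ∣ orderOf g → (ζ' : G → ℂ) g = (ζ : G → ℂ) g) ∧
      ∃ A B : ℂ, A + B = -1 ∧ Complex.normSq (A - B) = p ∧
        ∀ t : ZMod p, t ≠ 0 → (ζ : G → ℂ) (pw L.x t) = (if t ∈ L.U then A else B) ∧
          (ζ' : G → ℂ) (pw L.x t) = (if t ∈ L.U then B else A) := by
  have hp : p.Prime := Fact.out
  have h5 := H.five_le
  have hdeg := H.deg
  obtain ⟨d, hd⟩ : ∃ d, d = charDegree (ζ : G → ℂ) := ⟨_, rfl⟩
  rw [← hd] at hdeg
  obtain ⟨e, he⟩ : ∃ e, e = (Subgroup.centralizer (P : Set G)).relIndex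
    (Subgroup.normalizer (P : Set G)) := ⟨_, rfl⟩
  have hS : Setup P e := ⟨H.card, he.symm⟩
  obtain ⟨x, hx, hx1, hxo⟩ := hS.exists_gen
  obtain ⟨hedvd, U, hU, hUc, hUN, hUc'⟩ := hS.exists_unitSet hx hxo
  obtain ⟨η, hb, hη⟩ := exists_eta hS hx hxo
  have hU0 : ∀ v ∈ U, v ≠ 0 := hU.ne_zero
  have hUinv : ∀ v ∈ U, v⁻¹ ∈ U := by
    intro v hv
    have h1 := BlockThms.OrderP.pow_card_eq_one hU hv
    have hpow : ∀ j : ℕ, v ^ j ∈ U := fun j => by
      induction j with
      | zero => rw [pow_zero]; exact hU.one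
      | succ j ih => rw [pow_succ]; exact hU.mul _ ih _ hv
    have hc : 0 < U.card := Finset.card_pos.2 ⟨_, hU.one⟩
    have h2 : v⁻¹ = v ^ (U.card - 1) := by
      refine inv_eq_of_mul_eq_one_right ?_
      rw [← pow_succ', Nat.sub_add_cancel hc, h1]
    exact h2 ▸ hpow _
  have hsum : ∑ s, Blocks.resMult ζ (η s) = d := by
    rw [hd, BlockChar.PrimeShape.degree_eq_sum H.card ζ]
    exact Fintype.sum_bijective η hb _ _ fun _ => rfl
  have hinv : ∀ v ∈ U, ∀ s, Blocks.resMult ζ (η (s * v)) = Blocks.resMult ζ (η s) := by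
    intro v hv s
    obtain ⟨m, hm⟩ := hUc' v hv 1
    have hne : pw x (v * 1) ≠ 1 := fun h => hU0 v hv (by
      have h2 : pw x (v * 1) = pw x (0 : ZMod p) := by rw [h]; simp [pw]
      simpa using pw_injective hxo h2)
    have hmN : m ∈ Subgroup.normalizer (P : Set G) :=
      hS.mem_normalizer (show pw x (v * 1) ∈ (P : Subgroup G) from pow_mem hx _) hne (by
        rw [← hm, show m⁻¹ * (m * pw x (1 : ZMod p) * m⁻¹) * m = pw x (1 : ZMod p) by
          simp [mul_assoc]]
        exact pow_mem hx _)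
    obtain ⟨v', -, hv''⟩ := hUN m hmN
    have h3 : v' = v := by
      have h2 := pw_injective hxo ((hv'' 1).symm.trans hm)
      simpa using h2
    rw [← twist_eta hS hx hxo hη hmN (h3 ▸ hv''), BlockChar.PrimeShape.resMult_twist H.card]
  obtain ⟨M, hM⟩ := Blocks.exists_isPModular p hp
  obtain ⟨η₀, hshape, -⟩ := BlockChar.PrimeShape.exists_shape H.card H.sq hM ζ (fun h => by
    have hpos : 0 < charDegree (ζ : G → ℂ) := Blocks.charDegree_pos ζ.2
    have := Nat.le_of_dvd hpos h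
    omega)
  obtain ⟨r, rfl⟩ := hb.2 η₀
  have hval := val_eq_sum hx hb hη ζ
  have hval0 : (ζ : G → ℂ) (pw x (0 : ZMod p)) = d := by
    rw [show pw x (0 : ZMod p) = 1 by simp [pw], hd,
      Blocks.charDegree_cast (Char.IsIrr.isCharacter ζ.2)]
  have hxnot : (ζ : G → ℂ) x ≠ d := fun h => hx1 (H.faith x (by
    rw [h, hd, Blocks.charDegree_cast (Char.IsIrr.isCharacter ζ.2)]))
  have hx1' : pw x (1 : ZMod p) = x := by rw [← Nat.cast_one, pw_natCast hxo, pow_one]
  -- not all the weight is on the trivial line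
  have hkill : (∀ s, s ≠ 0 → Blocks.resMult ζ (η s) = 0) → False := by
    intro h
    refine hxnot ?_
    rw [← hx1', hval, ← hsum, Nat.cast_sum]
    refine Finset.sum_congr rfl fun s _ => ?_
    by_cases hs : s = 0
    · rw [hs, zero_mul, AddChar.map_zero_eq_one, mul_one]
    · rw [h s hs, Nat.cast_zero, zero_mul]
  set O := U.image fun v => r * v with hO
  have hnotO : ∀ s, s ∉ O → η s ∉ BlockChar.PrimeShape.orb (η r) := by
    intro s hs hmem
    obtain ⟨v, hv, rfl⟩ := orb_eta hS hx hxo hUN hb hη hmem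
    exact hs (Finset.mem_image_of_mem _ hv)
  have heq : ∀ s s', s ∉ O → s' ∉ O → Blocks.resMult ζ (η s) = Blocks.resMult ζ (η s') :=
    fun s s' h h' => hshape _ _ (hnotO s h) (hnotO s' h')
  have hin : ∀ s ∈ O, Blocks.resMult ζ (η s) = Blocks.resMult ζ (η r) := by
    intro s hs
    obtain ⟨v, hv, rfl⟩ := Finset.mem_image.1 hs
    exact hinv v hv r
  have hr : r ≠ 0 := by
    intro hr0
    refine hkill fun s hs => ?_
    have hsO : s ∉ O := fun h => hs (by
      obtain ⟨v, -, rfl⟩ := Finset.mem_image.1 h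
      rw [hr0, zero_mul])
    by_contra hne
    have h1 : (p - 1) * Blocks.resMult ζ (η s) ≤ d := by
      have hc0 : ((Finset.univ : Finset (ZMod p)).erase 0).card = p - 1 := by
        rw [Finset.card_erase_of_mem (Finset.mem_univ _), Finset.card_univ, ZMod.card]
      rw [← hsum, ← hc0, ← smul_eq_mul, ← Finset.sum_const,
        Finset.sum_congr rfl (g := fun q => Blocks.resMult ζ (η q)) (fun q hq => heq s q hsO
          (fun h => Finset.ne_of_mem_erase hq (by
            obtain ⟨v, -, rfl⟩ := Finset.mem_image.1 h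
            rw [hr0, zero_mul])))]
      exact Finset.sum_le_sum_of_subset (Finset.erase_subset _ _)
    have h2 := Nat.le_mul_of_pos_right (p - 1) (Nat.pos_of_ne_zero hne)
    omega
  have hOc : O.card = e := by
    rw [hO, Finset.card_image_of_injective _ (mul_right_injective₀ hr), hUc]
  have hO0 : (0 : ZMod p) ∉ O := fun h => by
    obtain ⟨v, hv, hv0⟩ := Finset.mem_image.1 h
    exact mul_ne_zero hr (hU0 v hv) hv0
  have hep : e ≤ p - 1 := Nat.le_of_dvd (by omega) hedvd
  have hout : ∀ s ∉ O, Blocks.resMult ζ (η s) = 0 := by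
    intro s hs
    by_contra hne
    have h1 : (p - e) * Blocks.resMult ζ (η s) ≤ d := by
      have hc1 : Oᶜ.card = p - e := by rw [Finset.card_compl, ZMod.card, hOc]
      rw [← hsum, ← hc1, ← smul_eq_mul, ← Finset.sum_const,
        Finset.sum_congr rfl (g := fun q => Blocks.resMult ζ (η q))
          (fun q hq => heq s q hs (Finset.mem_compl.1 hq))]
      exact Finset.sum_le_sum_of_subset (Finset.subset_univ _)
    have h2 := Nat.le_mul_of_pos_right (p - e) (Nat.pos_of_ne_zero hne)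
    have he' : e = p - 1 := by
      obtain ⟨m, hm⟩ := hedvd
      match m with
      | 0 => omega
      | 1 => omega
      | m + 2 =>
        have := Nat.mul_le_mul_left e (show 2 ≤ m + 2 by omega)
        omega
    have hOe : O = Finset.univ.erase 0 := Finset.eq_of_subset_of_card_le
      (fun q hq => Finset.mem_erase.2 ⟨fun e0 => hO0 (e0 ▸ hq), Finset.mem_univ q⟩)
      (by rw [Finset.card_erase_of_mem (Finset.mem_univ _), Finset.card_univ, ZMod.card, hOc, he'])
    refine hkill fun q hq => ?_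
    rw [hin q (hOe ▸ Finset.mem_erase.2 ⟨hq, Finset.mem_univ _⟩)]
    by_contra hB
    have h3 : (p - 1) * Blocks.resMult ζ (η r) ≤ d := by
      rw [← hsum, ← he', ← hOc, ← smul_eq_mul, ← Finset.sum_const, ← Finset.sum_congr rfl hin]
      exact Finset.sum_le_sum_of_subset (Finset.subset_univ _)
    have := Nat.le_mul_of_pos_right (p - 1) (Nat.pos_of_ne_zero hB)
    omega
  obtain ⟨m, hm⟩ : ∃ m, m = Blocks.resMult ζ (η r) := ⟨_, rfl⟩
  have hn : ∀ s, Blocks.resMult ζ (η s) = if s ∈ O then m else 0 := fun s => by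
    split_ifs with h
    · rw [hin s h, hm]
    · exact hout s h
  have hdem : d = e * m := by
    rw [← hsum, Finset.sum_congr rfl fun s _ => hn s, Finset.sum_ite_mem, Finset.univ_inter,
      Finset.sum_const, hOc, smul_eq_mul]
  -- at least two lines
  have he2 : 2 ≤ e := by
    by_contra h
    have he1 : e = 1 := by have := hS.e_pos; omega
    have hO1 : O = {r} := (Finset.eq_of_subset_of_card_le (Finset.singleton_subset_iff.2
      (Finset.mem_image.2 ⟨1, hU.one, mul_one r⟩)) (by rw [hOc, he1, Finset.card_singleton])).symm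
    have hZ : x ∈ Subgroup.center G := H.mem_center_of_norm (by
      rw [← hd, ← hx1', hval]
      simp only [hn, hO1, Finset.mem_singleton, Nat.cast_ite, Nat.cast_zero, ite_mul, zero_mul,
        Finset.sum_ite_eq', Finset.mem_univ, if_true, norm_mul, Complex.norm_natCast]
      rw [hdem, he1, one_mul, mul_one r, Complex.norm_eq_one_of_pow_eq_one (n := p) ?_ hp.ne_zero,
        mul_one]
      rw [SmallDeg.psi_pow, ZMod.natCast_self, zero_mul, AddChar.map_zero_eq_one])
    refine H.nn ⟨fun w hw g => ?_⟩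
    have hwZ : w ∈ Subgroup.center G := by
      rw [← hS.zpowers_eq hx hx1] at hw
      exact (Subgroup.zpowers_le.2 hZ) hw
    rw [Subgroup.mem_center_iff.1 hwZ g, mul_inv_cancel_right]
    exact hw
  have hem : e ≤ d := by
    rw [hdem]
    refine Nat.le_mul_of_pos_right e (Nat.pos_of_ne_zero fun h => ?_)
    rw [h, mul_zero] at hdem
    omega
  -- a conjugate
  obtain ⟨a, ha0, haU⟩ : ∃ a : ZMod p, a ≠ 0 ∧ a ∉ U := by
    by_contra! hall
    have h := Finset.card_le_card (fun s hs => hall s (Finset.ne_of_mem_erase hs) :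
      (Finset.univ : Finset (ZMod p)).erase 0 ⊆ U)
    rw [Finset.card_erase_of_mem (Finset.mem_univ _), Finset.card_univ, ZMod.card, hUc] at h
    omega
  obtain ⟨k, hkcop, hka, hkreg⟩ := exists_exp H.card H.sq ha0
  let ζ' : IrrCharacter G := ⟨_, Char.isIrr_comp_pow k hkcop ζ.2⟩
  have hreg : ∀ g : G, ¬ p ∣ orderOf g → (ζ' : G → ℂ) g = (ζ : G → ℂ) g := fun g hg => by
    show (ζ : G → ℂ) (g ^ k) = _
    rw [hkreg g hg]
  have hval' : ∀ t : ZMod p, (ζ' : G → ℂ) (pw x t) = (ζ : G → ℂ) (pw x (a * t)) := fun t => by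
    show (ζ : G → ℂ) (pw x t ^ k) = _
    rw [pw, ← pow_mul, ← pw_natCast hxo, Nat.cast_mul, ZMod.natCast_zmod_val, hka, mul_comm]
  set f : ZMod p → ℂ := fun s => (if s ∈ O then (m : ℂ) else 0) with hf
  set g' : ZMod p → ℂ := fun s => (if a⁻¹ * s ∈ O then (m : ℂ) else 0) with hg'
  have hvf : ∀ t, (ζ : G → ℂ) (pw x t) = ∑ s, f s * psi p (s * t) := fun t => by
    rw [hval]
    exact Finset.sum_congr rfl fun s _ => by rw [hn, hf]; push_cast; rfl
  have hvg : ∀ t, (ζ' : G → ℂ) (pw x t) = ∑ s, g' s * psi p (s * t) := fun t => by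
    rw [hval', hvf]
    refine Fintype.sum_equiv (Equiv.mulLeft₀ a ha0) _ _ fun s => ?_
    show f s * psi p (s * (a * t)) = g' (a * s) * psi p (a * s * t)
    simp only [hg', inv_mul_cancel_left₀ ha0, hf]
    ring_nf
  have hdisj : ∀ s, s ∈ O → a⁻¹ * s ∉ O := by
    intro s hs hs'
    obtain ⟨v, hv, rfl⟩ := Finset.mem_image.1 hs
    obtain ⟨v', hv', hvv⟩ := Finset.mem_image.1 hs'
    have h1 : a * v' = v := by
      have h2 : r * (a * v') = r * v := by
        rw [mul_left_comm, hvv, mul_inv_cancel_left₀ ha0]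
      exact mul_left_cancel₀ hr h2
    refine haU ?_
    rw [show a = v * v'⁻¹ by rw [← h1, mul_inv_cancel_right₀ (hU0 v' hv')]]
    exact hU.mul v hv _ (hUinv v' hv')
  have horth : ∑ w : (P : Subgroup G), (ζ : G → ℂ) (w : G) * conj ((ζ' : G → ℂ) (w : G)) = 0 := by
    have h := SmallDeg.parseval f g'
    have h0 : ∀ s, f s * conj (g' s) = 0 := fun s => by
      simp only [hf, hg']
      by_cases hs : s ∈ O
      · rw [if_neg (hdisj s hs), map_zero, mul_zero]
      · rw [if_neg hs, zero_mul]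
    simp only [h0, Finset.sum_const_zero, mul_zero, ← hvf, ← hvg] at h
    rw [← h]
    symm
    exact Fintype.sum_bijective (fun t => (⟨pw x t, pow_mem hx _⟩ : (P : Subgroup G)))
      ⟨fun t t' h => pw_injective hxo (congrArg Subtype.val h), fun w => by
        obtain ⟨t, ht⟩ := hS.exists_pw hx hxo w.2
        exact ⟨t, Subtype.ext ht⟩⟩ _ _ fun t => rfl
  have hPtop : (P : Subgroup G) ≠ ⊤ := fun h => H.nn (h ▸ inferInstance)
  have hcen : ∀ y ∈ Subgroup.centralizer (P : Set G), ¬ p ∣ orderOf y → y ∈ Subgroup.center G :=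
    fun y hy hyr => central_of_regular H hPtop hreg horth hy hyr
  have hZreg : ¬ p ∣ Nat.card (Subgroup.center G) := by
    intro hpZ
    refine H.nn ⟨fun y hy g => ?_⟩
    have hyZ : y ∈ Subgroup.center G := BlockChar.DegreeBound.mem_of_pow_eq_one (G := G) H.sq _
      hpZ (pow_eq_one_of_mem H.card hy)
    rw [Subgroup.mem_center_iff.1 hyZ g, mul_inv_cancel_right]
    exact hy
  obtain ⟨K, hK1, -, hK3, -, -, hK6⟩ := hS.exists_complement
  let L : Loc P e :=
    { setup := hS, x := x, x_mem := hx, x_ord := hxo, U := U, unit := hU, U_card := hUc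
      conj_U := hUN, U_conj := hUc', center_reg := hZreg
      dec := fun c hc => by
        obtain ⟨q, hq, b, hb, rfl⟩ := hK6 c hc
        obtain ⟨t, rfl⟩ := hS.exists_pw hx hxo hq
        have hbZ := hcen b (hK1 hb) ((hK3 b).1 hb).2
        exact ⟨t, b, hbZ, (Subgroup.mem_center_iff.1 hbZ _).symm⟩ }
  -- the norm of the difference
  have hdiff : ∑ t : ZMod p, ((ζ : G → ℂ) (pw x t) - (ζ' : G → ℂ) (pw x t)) *
      conj ((ζ : G → ℂ) (pw x t) - (ζ' : G → ℂ) (pw x t)) = (p : ℂ) * (2 * e * (m * m)) := by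
    have h := SmallDeg.parseval (fun s => f s - g' s) (fun s => f s - g' s)
    have hk : ∀ t, ∑ s, (f s - g' s) * psi p (s * t) =
        (ζ : G → ℂ) (pw x t) - (ζ' : G → ℂ) (pw x t) := fun t => by
      simp only [sub_mul, Finset.sum_sub_distrib, ← hvf, ← hvg]
    simp only [hk] at h
    rw [h]
    congr 1
    have h2 : ∀ s, f s * conj (f s - g' s) - g' s * conj (f s - g' s) =
        (if s ∈ O then (m : ℂ) * m else 0) + (if a⁻¹ * s ∈ O then (m : ℂ) * m else 0) := by
      intro s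
      simp only [hf, hg']
      by_cases hs : s ∈ O
      · rw [if_pos hs, if_neg (hdisj s hs), if_pos hs, if_neg (hdisj s hs), sub_zero,
          Complex.conj_natCast]
        ring
      · rw [if_neg hs, if_neg hs]
        by_cases hs' : a⁻¹ * s ∈ O
        · rw [if_pos hs', if_pos hs', zero_sub, map_neg, Complex.conj_natCast]; ring
        · rw [if_neg hs', if_neg hs']; simp
    have h3 : ∑ s : ZMod p, (if a⁻¹ * s ∈ O then (m : ℂ) * m else 0) =
        ∑ s : ZMod p, (if s ∈ O then (m : ℂ) * m else 0) :=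
      Fintype.sum_equiv (Equiv.mulLeft₀ a⁻¹ (inv_ne_zero ha0)) _ _ fun s => rfl
    rw [Finset.sum_congr rfl fun s _ => (sub_mul _ _ _).trans (h2 s), Finset.sum_add_distrib, h3,
      Finset.sum_ite_mem, Finset.univ_inter, Finset.sum_const, hOc, nsmul_eq_mul]
    ring
  have hin2 := L.classInner_singular
    (φ := (ζ : G → ℂ) - (ζ' : G → ℂ)) (ψ := (ζ : G → ℂ) - (ζ' : G → ℂ))
    (fun g k => by simp [Char.isClassFunction_of_isIrr ζ.2 g k,
      Char.isClassFunction_of_isIrr ζ'.2 g k])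
    (fun g k => by simp [Char.isClassFunction_of_isIrr ζ.2 g k,
      Char.isClassFunction_of_isIrr ζ'.2 g k])
    (fun g hg => Or.inl (by simp [hreg g hg]))
  have hcc : ∀ k ∈ Subgroup.center G, ∀ g : G, (ζ' : G → ℂ) (g * k) =
      cchar ζ k * (ζ' : G → ℂ) g := fun k hk g => by
    rw [cchar_apply ζ' hk g]
    congr 1
    rw [cchar, cchar, hreg k (L.center_regular hk), hreg 1 (by rw [orderOf_one]; exact hp.not_dvd_one)]
  have hfib : ∑ t : ZMod p, ∑ k : Subgroup.center G,
      ((ζ : G → ℂ) - (ζ' : G → ℂ)) (pw L.x t * k) *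
        conj (((ζ : G → ℂ) - (ζ' : G → ℂ)) (pw L.x t * k)) =
      (Nat.card (Subgroup.center G) : ℂ) * ((p : ℂ) * (2 * e * (m * m))) := by
    rw [← hdiff, Finset.mul_sum]
    refine Finset.sum_congr rfl fun t _ => ?_
    rw [Finset.sum_congr rfl (g := fun _ => ((ζ : G → ℂ) (pw x t) - (ζ' : G → ℂ) (pw x t)) *
        conj ((ζ : G → ℂ) (pw x t) - (ζ' : G → ℂ) (pw x t))) (fun (k : Subgroup.center G) _ => ?_),
      Finset.sum_const, Finset.card_univ, nsmul_eq_mul, Nat.card_eq_fintype_card]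
    simp only [Pi.sub_apply]
    rw [cchar_apply ζ k.2, hcc k k.2, ← mul_sub, map_mul, mul_mul_mul_comm, cchar_mul_conj ζ k.2,
      one_mul]
  rw [hfib] at hin2
  have hne' : (e : ℂ) * (p : ℂ) * (Nat.card (Subgroup.center G) : ℂ) ≠ 0 :=
    mul_ne_zero (mul_ne_zero (Nat.cast_ne_zero.2 (by omega)) (Nat.cast_ne_zero.2 hp.ne_zero))
      (Nat.cast_ne_zero.2 Nat.card_pos.ne')
  have hin3 : classInner ((ζ : G → ℂ) - (ζ' : G → ℂ)) ((ζ : G → ℂ) - (ζ' : G → ℂ)) =
      2 * ((m : ℂ) * m) := mul_left_cancel₀ hne' (by rw [hin2]; ring)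
  have hmpos : 0 < m := Nat.pos_of_ne_zero fun h => by rw [h, mul_zero] at hdem; omega
  rw [Char.classInner_sub_left, Char.classInner_sub_right, Char.classInner_sub_right,
    Char.classInner_irrChar, Char.classInner_irrChar, Char.classInner_irrChar,
    Char.classInner_irrChar, if_pos rfl, if_pos rfl] at hin3
  have hm1 : m = 1 := by
    by_cases hq : ζ = ζ'
    · rw [if_pos hq, if_pos hq.symm] at hin3
      have : ((2 * (m * m) : ℕ) : ℂ) = 0 := by push_cast; linear_combination -hin3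
      have h4 := Nat.cast_eq_zero.1 this
      have := Nat.mul_pos hmpos hmpos
      omega
    · rw [if_neg hq, if_neg (Ne.symm hq)] at hin3
      have : ((2 * (m * m) : ℕ) : ℂ) = ((2 : ℕ) : ℂ) := by push_cast; linear_combination -hin3
      have h4 := Nat.cast_inj.1 this
      have h5 : m * m = 1 := by omega
      exact Nat.eq_one_of_mul_eq_one_left h5
  rw [hm1, mul_one] at hdem
  -- the two classes
  have hUa : ∀ t : ZMod p, t ≠ 0 → t ∉ U → ∃ v ∈ U, t = a * v := by
    intro t ht htU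
    have hsub : U.image (fun v => a * v) ⊆ ((Finset.univ : Finset (ZMod p)).erase 0) \ U := by
      intro s hs
      obtain ⟨v, hv, rfl⟩ := Finset.mem_image.1 hs
      refine Finset.mem_sdiff.2 ⟨Finset.mem_erase.2 ⟨mul_ne_zero ha0 (hU0 v hv),
        Finset.mem_univ _⟩, fun h => haU ?_⟩
      rw [show a = a * v * v⁻¹ by rw [mul_inv_cancel_right₀ (hU0 v hv)]]
      exact hU.mul _ h _ (hUinv v hv)
    have h2 := Finset.eq_of_subset_of_card_le hsub (by
      rw [Finset.card_image_of_injective _ (mul_right_injective₀ ha0), hUc,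
        Finset.card_sdiff_of_subset (fun s hs => Finset.mem_erase.2 ⟨hU0 s hs, Finset.mem_univ _⟩),
        Finset.card_erase_of_mem (Finset.mem_univ _), Finset.card_univ, ZMod.card, hUc]
      omega)
    obtain ⟨v, hv, hvt⟩ := Finset.mem_image.1
      (h2.symm ▸ Finset.mem_sdiff.2 ⟨Finset.mem_erase.2 ⟨ht, Finset.mem_univ _⟩, htU⟩)
    exact ⟨v, hv, hvt.symm⟩
  have hconst : ∀ v ∈ U, ∀ t, (ζ : G → ℂ) (pw x (v * t)) = (ζ : G → ℂ) (pw x t) := by
    intro v hv t
    obtain ⟨c, hc⟩ := hUc' v hv t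
    rw [← hc, Char.isClassFunction_of_isIrr ζ.2]
  have hζA : ∀ t : ZMod p, t ≠ 0 → (ζ : G → ℂ) (pw x t) =
      if t ∈ U then (ζ : G → ℂ) (pw x (1 : ZMod p)) else (ζ : G → ℂ) (pw x a) := by
    intro t ht
    split_ifs with h
    · rw [← hconst t h 1, mul_one]
    · obtain ⟨v, hv, rfl⟩ := hUa t ht h
      rw [mul_comm, hconst v hv]
  have haa : a * a ∈ U := by
    by_contra h
    obtain ⟨v, hv, hvv⟩ := hUa _ (mul_ne_zero ha0 ha0) h
    exact haU (mul_left_cancel₀ ha0 hvv ▸ hv)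
  have hζB : ∀ t : ZMod p, t ≠ 0 → (ζ' : G → ℂ) (pw x t) =
      if t ∈ U then (ζ : G → ℂ) (pw x a) else (ζ : G → ℂ) (pw x (1 : ZMod p)) := by
    intro t ht
    rw [hval', hζA _ (mul_ne_zero ha0 ht)]
    by_cases h : t ∈ U
    · rw [if_pos h, if_neg fun h' => haU ?_]
      rw [show a = a * t * t⁻¹ by rw [mul_inv_cancel_right₀ ht]]
      exact hU.mul _ h' _ (hUinv t h)
    · rw [if_neg h, if_pos ?_]
      obtain ⟨v, hv, rfl⟩ := hUa t ht h
      rw [← mul_assoc]
      exact hU.mul _ haa v hv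
  set A := (ζ : G → ℂ) (pw x (1 : ZMod p)) with hA
  set B := (ζ : G → ℂ) (pw x a) with hB
  have hpe : p = 2 * e + 1 := by omega
  have hcnt : ∀ X Y : ℂ, ∑ t ∈ (Finset.univ : Finset (ZMod p)).erase 0, (if t ∈ U then X else Y) =
      (e : ℂ) * (X + Y) := by
    intro X Y
    have hsub : U ⊆ (Finset.univ : Finset (ZMod p)).erase 0 :=
      fun s hs => Finset.mem_erase.2 ⟨hU0 s hs, Finset.mem_univ _⟩
    rw [Finset.sum_ite, Finset.filter_mem_eq_inter, Finset.inter_eq_right.2 hsub,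
      ← Finset.sdiff_eq_filter, Finset.sum_const, Finset.sum_const, hUc,
      Finset.card_sdiff_of_subset hsub, Finset.card_erase_of_mem (Finset.mem_univ _),
      Finset.card_univ, ZMod.card, hUc, show p - 1 - e = e by omega, nsmul_eq_mul, nsmul_eq_mul]
    ring
  refine ⟨e, hpe.symm, he2, hd ▸ hdem, L, ζ', hreg, A, B, ?_, ?_, fun t ht => ⟨hζA t ht, hζB t ht⟩⟩
  · have h1 : ∑ t : ZMod p, (ζ : G → ℂ) (pw x t) = 0 := by
      have h := SmallDeg.inversion f 0
      simp only [zero_mul, neg_zero, AddChar.map_zero_eq_one, mul_one, ← hvf] at h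
      rw [h, hf]
      simp [hO0]
    rw [← Finset.add_sum_erase _ _ (Finset.mem_univ (0 : ZMod p)), hval0,
      Finset.sum_congr rfl (fun t ht => hζA t (Finset.ne_of_mem_erase ht)), hcnt, hdem] at h1
    refine mul_left_cancel₀ (show (e : ℂ) ≠ 0 by exact_mod_cast (show e ≠ 0 by omega)) ?_
    linear_combination h1
  · rw [← Finset.add_sum_erase _ _ (Finset.mem_univ (0 : ZMod p))] at hdiff
    rw [Finset.sum_congr rfl (g := fun t => if t ∈ U then (A - B) * conj (A - B)
      else (B - A) * conj (B - A)) (fun t ht => by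
        rw [hζA t (Finset.ne_of_mem_erase ht), hζB t (Finset.ne_of_mem_erase ht)]
        split_ifs <;> rfl), hcnt, show pw x (0 : ZMod p) = 1 by simp [pw],
      hreg 1 (by rw [orderOf_one]; exact hp.not_dvd_one), hm1] at hdiff
    have h2 : ((Complex.normSq (A - B) : ℝ) : ℂ) = ((p : ℝ) : ℂ) := by
      rw [← Complex.mul_conj, Complex.ofReal_natCast]
      refine mul_left_cancel₀ (show (2 * (e : ℂ)) ≠ 0 by
        exact_mod_cast (show 2 * e ≠ 0 by omega)) ?_
      simp only [sub_self, map_zero, mul_zero, zero_add, Nat.cast_one, map_sub] at hdiff ⊢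
      linear_combination hdiff
    exact_mod_cast h2

end Hyp

end Cfsg.Agent.Fg24.HalfDeg
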