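import Cfsg.Agent.Fg24.HalfDeg.Ident
import Cfsg.Agent.Fg24.Brauer.Block

/-!
# The exceptional characters trivial on the centre, and linear characters
-/

set_option autoImplicit false
set_option linter.unusedSectionVars false

open Cfsg
open scoped ComplexConjugate Classical

namespace Cfsg.Agent.Fg24.HalfDeg

open Cfsg.Agent.BlockThms.OrderP

universe u

variable {G : Type u} [Group G] [Fintype G] {p : ℕ} [Fact p.Prime] {P : Sylow p G}

namespace Dat

variable {e : ℕ} (D : Dat P e)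
include D

theorem neg_one_mem (he : Even e) : (-1 : ZMod p) ∈ D.U := by
  have hepos : 0 < e := by have := D.two_le; omega
  have hsub : D.U ⊆ Polynomial.nthRootsFinset e (1 : ZMod p) := fun v hv =>
    (Polynomial.mem_nthRootsFinset hepos 1).2 (by
      rw [← D.U_card]; exact BlockThms.OrderP.pow_card_eq_one D.unit hv)
  have hle : (Polynomial.nthRootsFinset e (1 : ZMod p)).card ≤ D.U.card := by
    rw [D.U_card, Polynomial.nthRootsFinset]
    exact (@Multiset.toFinset_card_le _ (Classical.decEq _) _).trans (Polynomial.card_nthRoots _ _)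
  rw [Finset.eq_of_subset_of_card_le hsub hle, Polynomial.mem_nthRootsFinset hepos, he.neg_one_pow]

theorem conj_val (he : Even e) (χ : IrrCharacter G) {t : ZMod p} (ht : t ≠ 0) :
    conj ((χ : G → ℂ) (pw D.x t)) = (χ : G → ℂ) (pw D.x t) := by
  obtain ⟨c, hc⟩ := D.U_conj (-1) (D.neg_one_mem he) t
  rw [neg_one_mul] at hc
  rw [← Char.IsChar.inv_eq_conj (Char.IsIrr.isCharacter χ.2), D.pw_inv, ← hc,
    Char.isClassFunction_of_isIrr χ.2]

/-- The exceptional characters of the principal block. -/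
theorem exists_triv_couple :
    ∃ Q : Couple D, Q.α ∈ Over (Blocks.triv G) ∧
      (charDegree (Q.α : G → ℂ) : ℤ) ≡ -((e : ℤ) * Q.σ) [ZMOD p] := by
  have hp : p.Prime := Fact.out
  obtain ⟨B⟩ := Brauer.exists_blockData D.setup D.two_le
  have hhalf := D.half
  have hY2 : B.Y.card = 2 := by
    rw [B.cardY, show p - 1 = 2 * e by omega]
    exact Nat.mul_div_cancel 2 (by have := D.two_le; omega)
  obtain ⟨η, η', hne, hY⟩ := Finset.card_eq_two.1 hY2
  have hηY : η ∈ B.Y := by rw [hY]; simp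
  have hη'Y : η' ∈ B.Y := by rw [hY]; simp
  have h1 : ¬ p ∣ orderOf (1 : G) := by rw [orderOf_one]; exact hp.not_dvd_one
  have hZ0 : (Nat.card (Subgroup.center G) : ℂ) ≠ 0 := Nat.cast_ne_zero.2 Nat.card_pos.ne'
  have havg : ∀ (χ : IrrCharacter G) (t : ZMod p), t ≠ 0 →
      avg p (χ : G → ℂ) (pw D.x t) = if χ ∈ Over (Blocks.triv G) then (χ : G → ℂ) (pw D.x t) else 0 := by
    intro χ t ht
    have hf : ((fiber p (pw D.x t)).card : ℂ) = (Nat.card (Subgroup.center G) : ℂ) := by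
      have h := D.setup.card_fiber (D.pw_mem t) (D.pw_ne ht)
      rw [D.setup.centralizer_eq (D.pw_mem t) (D.pw_ne ht), D.card_C, mul_comm p] at h
      rw [Nat.eq_of_mul_eq_mul_right hp.pos h]
    have h2 := congrArg conj (proj (Blocks.triv G) χ)
    simp only [map_sum, cchar_triv, one_mul, Complex.conj_conj, apply_ite conj, Complex.conj_natCast,
      map_zero] at h2
    rw [avg, hf, D.sum_fiber _ ht, Finset.sum_congr rfl fun k _ => cchar_apply χ k.2 _,
      ← Finset.sum_mul, h2]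
    split_ifs
    · rw [inv_mul_cancel_left₀ hZ0]
    · rw [zero_mul, mul_zero]
  have hYover : ∀ θ ∈ B.Y, θ ∈ Over (Blocks.triv G) := by
    intro θ hθ
    by_contra hθO
    have h0 : ∀ t : ZMod p, t ≠ 0 → (θ : G → ℂ) (pw D.x t) = 0 := fun t ht => by
      rw [B.avgY θ hθ _ (D.pw_mem t) (D.pw_ne ht), havg θ t ht, if_neg hθO]
    obtain ⟨b, hb, hη⟩ := exists_eta D.setup D.x_mem D.x_ord
    have h := SmallDeg.inversion (fun s => (Blocks.resMult θ (b s) : ℂ)) 0
    simp only [← val_eq_sum D.x_mem hb hη, zero_mul, neg_zero, AddChar.map_zero_eq_one,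
      mul_one] at h
    rw [Finset.sum_eq_single (0 : ZMod p) (fun t _ ht => h0 t ht)
      (fun h => absurd (Finset.mem_univ _) h), D.pw_zero,
      ← Blocks.charDegree_cast (Char.IsIrr.isCharacter θ.2), ← Nat.cast_mul, Nat.cast_inj] at h
    have h3 := B.degY θ hθ
    rw [h, Int.modEq_iff_dvd] at h3
    have h4 : (p : ℤ) ∣ (e : ℤ) * B.s := by
      rw [← dvd_neg]
      have := dvd_add h3 (dvd_mul_right (p : ℤ) (Blocks.resMult θ (b 0) : ℤ))
      push_cast at this
      rwa [sub_add_cancel] at this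
    have h5 : p ∣ e := by
      rcases B.s_or with h | h <;> rw [h] at h4
      · rw [mul_one] at h4; exact_mod_cast h4
      · rw [mul_neg, mul_one, dvd_neg] at h4; exact_mod_cast h4
    have := Nat.le_of_dvd (by have := D.two_le; omega) h5
    omega
  have hXval : ∀ χ ∈ B.X, ∀ t : ZMod p, t ≠ 0 → ∀ k ∈ Subgroup.center G,
      (χ : G → ℂ) (pw D.x t * k) = (B.a χ : ℂ) := fun χ hχ t ht k hk =>
    B.valX χ hχ _ (D.pw_mem t) (D.pw_ne ht) k (Subgroup.center_le_centralizer _ hk)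
      (D.center_regular hk)
  have hXval1 : ∀ χ ∈ B.X, ∀ t : ZMod p, t ≠ 0 → (χ : G → ℂ) (pw D.x t) = (B.a χ : ℂ) := by
    intro χ hχ t ht
    have h := hXval χ hχ t ht 1 (one_mem _)
    rwa [mul_one] at h
  have hXover : ∀ χ ∈ B.X, χ ∈ Over (Blocks.triv G) := by
    intro χ hχ
    refine mem_Over.2 fun k hk => ?_
    have h := hXval χ hχ 1 one_ne_zero k hk
    rw [cchar_apply χ hk, hXval1 χ hχ 1 one_ne_zero] at h
    rw [cchar_triv]
    refine (mul_eq_right₀ ?_).1 h
    rcases B.a_or χ hχ with h' | h' <;> simp [h']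
  -- sums over the characters trivial on the centre
  have hsum : ∀ f : IrrCharacter G → ℂ,
      (∀ χ ∈ Over (Blocks.triv G), (∀ t : ZMod p, t ≠ 0 → (χ : G → ℂ) (pw D.x t) = 0) → f χ = 0) →
      ∑ χ ∈ Over (Blocks.triv G), f χ = ∑ χ ∈ B.X, f χ + (f η + f η') := by
    intro f hf
    rw [← Finset.sum_pair (f := f) hne, ← hY, ← Finset.sum_union B.disj]
    refine (Finset.sum_subset (fun χ hχ => ?_) fun χ hχ hχn => ?_).symm
    · rcases Finset.mem_union.1 hχ with h | h
      · exact hXover χ h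
      · exact hYover χ h
    · refine hf χ hχ fun t ht => ?_
      simp only [Finset.mem_union, not_or] at hχn
      have h := B.out χ hχn.1 hχn.2 _ (D.pw_mem t) (D.pw_ne ht)
      rwa [havg χ t ht, if_pos hχ] at h
  have hy : (η' : G → ℂ) 1 = (η : G → ℂ) 1 := B.regY _ hη'Y _ hηY 1 h1
  have hrel := B.rel η hηY 1 h1
  have hs2 : (B.s : ℂ) * B.s = 1 := by rcases B.s_or with h | h <;> simp [h]
  have hconj1 : ∀ χ : IrrCharacter G, conj ((χ : G → ℂ) 1) = (χ : G → ℂ) 1 := fun χ => by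
    rw [← Blocks.charDegree_cast (Char.IsIrr.isCharacter χ.2), Complex.conj_natCast]
  have hlin : ∀ t : ZMod p, t ≠ 0 →
      (η : G → ℂ) (pw D.x t) + (η' : G → ℂ) (pw D.x t) = (B.s : ℂ) := by
    intro t ht
    have h := D.orth_reg (Blocks.triv G) ht h1
    rw [hsum _ (fun χ _ h => by rw [h t ht, zero_mul]),
      Finset.sum_congr rfl (fun χ hχ => by rw [hXval1 χ hχ t ht, hconj1]), hconj1, hconj1, hy] at h
    refine mul_right_cancel₀ (Char.IsIrr.one_ne_zero η.2) ?_
    linear_combination h - hrel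
  have hX1 : ∀ t u : ZMod p, t ≠ 0 → u ≠ 0 →
      ∑ χ ∈ B.X, (χ : G → ℂ) (pw D.x t) * conj ((χ : G → ℂ) (pw D.x u)) = (e : ℂ) := by
    intro t u ht hu
    rw [Finset.sum_congr rfl (g := fun _ => (1 : ℂ)) (fun χ hχ => by
      rw [hXval1 χ hχ t ht, hXval1 χ hχ u hu, map_intCast]
      rcases B.a_or χ hχ with h' | h' <;> simp [h']), Finset.sum_const, B.cardX, nsmul_eq_mul,
      mul_one]
  have hpair : ∀ t u : ZMod p, t ≠ 0 → u ≠ 0 →
      (η : G → ℂ) (pw D.x t) * conj ((η : G → ℂ) (pw D.x u)) +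
        (η' : G → ℂ) (pw D.x t) * conj ((η' : G → ℂ) (pw D.x u)) =
      (if (u ∈ D.U ↔ t ∈ D.U) then (p : ℂ) else 0) - (e : ℂ) := by
    intro t u ht hu
    have h := D.orth_sing (Blocks.triv G) ht hu
    rw [hsum _ (fun χ _ h => by rw [h t ht, zero_mul]), hX1 t u ht hu] at h
    linear_combination h
  set A := (η : G → ℂ) (pw D.x (1 : ZMod p)) with hA
  set C := (η : G → ℂ) (pw D.x D.a) with hC
  have ha := D.a_spec
  have hA' : (η' : G → ℂ) (pw D.x (1 : ZMod p)) = (B.s : ℂ) - A := by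
    linear_combination hlin 1 one_ne_zero
  have hC' : (η' : G → ℂ) (pw D.x D.a) = (B.s : ℂ) - C := by linear_combination hlin D.a ha.1
  have hsame := hpair 1 1 one_ne_zero one_ne_zero
  have hdiff := hpair 1 D.a one_ne_zero ha.1
  rw [if_pos Iff.rfl, hA'] at hsame
  rw [if_neg (fun h => ha.2 (h.2 D.unit.one)), hA', hC'] at hdiff
  have hhalf' : (p : ℂ) = 2 * (e : ℂ) + 1 := by exact_mod_cast hhalf.symm
  have hsc : conj (B.s : ℂ) = (B.s : ℂ) := map_intCast _ _
  simp only [map_sub, hsc] at hsame hdiff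
  have hD1 : (2 * A - (B.s : ℂ)) * conj (2 * A - (B.s : ℂ)) = (p : ℂ) := by
    simp only [map_sub, map_mul, map_ofNat, hsc]
    linear_combination 2 * hsame - hs2 + hhalf'
  have hD2 : (2 * A - (B.s : ℂ)) * conj (2 * C - (B.s : ℂ)) = -(p : ℂ) := by
    simp only [map_sub, map_mul, map_ofNat, hsc]
    linear_combination 2 * hdiff - hs2 + hhalf'
  have hne0 : 2 * A - (B.s : ℂ) ≠ 0 := fun h => by
    rw [h, zero_mul] at hD1
    exact D.p_ne hD1.symm
  have hCA : C = (B.s : ℂ) - A := by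
    have h : conj (2 * C - (B.s : ℂ)) = conj (-(2 * A - (B.s : ℂ))) := by
      refine mul_left_cancel₀ hne0 ?_
      rw [hD2, map_neg, mul_neg, hD1]
    have h2 := (starRingEnd ℂ).injective h
    linear_combination (1 / 2 : ℂ) * h2
  refine ⟨{
    α := η
    β := η'
    A := A
    B := C
    σ := B.s
    σ_or := B.s_or
    reg := fun g hg => B.regY _ hη'Y _ hηY g hg
    val := fun t ht => D.val_two (Char.isClassFunction_of_isIrr η.2) ht
    val' := fun t ht => by
      rw [D.val_two (Char.isClassFunction_of_isIrr η'.2) ht, hA', hC', hCA, sub_sub_cancel]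
    sum_eq := by rw [hCA, add_sub_cancel]
    norm_eq := by
      have h2 : ((Complex.normSq (A - C) : ℝ) : ℂ) = ((p : ℝ) : ℂ) := by
        rw [← Complex.mul_conj, Complex.ofReal_natCast, hCA,
          show A - ((B.s : ℂ) - A) = 2 * A - (B.s : ℂ) by ring]
        exact hD1
      exact_mod_cast h2 }, hYover η hηY, B.degY η hηY⟩

end Dat

namespace Hyp

variable {ζ : IrrCharacter G} (H : Hyp P ζ) {e : ℕ} {D : Dat P e} (Q : Couple D) (hQ : Q.α = ζ)
include H hQ

/-- A linear character trivial on `P` and on the centre is trivial. -/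
theorem linear_triv (χ : IrrCharacter G) (hd : charDegree (χ : G → ℂ) = 1)
    (hO : χ ∈ Over (Blocks.triv G)) (hx : (χ : G → ℂ) (pw D.x (1 : ZMod p)) = 1) :
    χ = Blocks.triv G := by
  subst hQ
  have h1 : (χ : G → ℂ) 1 = 1 := by
    rw [← Blocks.charDegree_cast (Char.IsIrr.isCharacter χ.2), hd, Nat.cast_one]
  obtain ⟨f, hf⟩ := Char.IsChar.exists_hom (Char.IsIrr.isCharacter χ.2) h1
  have hf1 : ∀ g, (χ : G → ℂ) g * conj ((χ : G → ℂ) g) = 1 := by
    intro g
    rw [hf]
    show ((f g : ℂˣ) : ℂ) * conj ((f g : ℂˣ) : ℂ) = 1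
    rw [Char.mul_conj_eq_norm_sq, Complex.norm_eq_one_of_pow_eq_one (n := orderOf g) (by
      rw [← Units.val_pow_eq_pow_val, ← map_pow, pow_orderOf_eq_one, map_one, Units.val_one])
      (orderOf_pos g).ne', one_pow, Complex.ofReal_one]
  have hrc : IsCharacter G ((χ : G → ℂ) * (Q.α : G → ℂ)) :=
    Char.isCharacter_mul (Char.IsIrr.isCharacter χ.2) (Char.IsIrr.isCharacter Q.α.2)
  have hri : IsIrrCharacter G ((χ : G → ℂ) * (Q.α : G → ℂ)) := by
    rw [Char.isIrr_iff_norm_one hrc]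
    rw [← Char.classInner_irr_self Q.α.2]
    simp only [classInner, Pi.mul_apply, map_mul]
    congr 1
    exact Finset.sum_congr rfl fun g _ => by
      linear_combination ((Q.α : G → ℂ) g * conj ((Q.α : G → ℂ) g)) * hf1 g
  set ρ : IrrCharacter G := ⟨_, hri⟩ with hρ
  have hρO : ρ ∈ Over Q.α := mem_Over.2 fun k hk => by
    have hχk : (χ : G → ℂ) k = 1 := by
      have h := mem_Over.1 hO k hk
      rwa [cchar_triv, cchar, h1, div_one] at h
    simp only [cchar, hρ, Pi.mul_apply, hχk, h1, one_mul]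
  have hval : ∀ t : ZMod p, t ≠ 0 → (ρ : G → ℂ) (pw D.x t) = (Q.α : G → ℂ) (pw D.x t) := by
    intro t _
    have hχt : (χ : G → ℂ) (pw D.x t) = 1 := by
      have hx' : ((f D.x : ℂˣ) : ℂ) = 1 := by
        rw [D.pw_one, hf] at hx
        exact hx
      rw [hf]
      show ((f (D.x ^ t.val) : ℂˣ) : ℂ) = 1
      rw [map_pow, Units.val_pow_eq_pow_val, hx', one_pow]
    simp only [hρ, Pi.mul_apply, hχt, one_mul]
  have hρα : ρ = Q.α := by
    by_contra hne
    by_cases hb : ρ = Q.β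
    · have h := hval 1 one_ne_zero
      rw [hb, Q.val 1 one_ne_zero, Q.val' 1 one_ne_zero, if_pos D.unit.one, if_pos D.unit.one] at h
      exact Q.A_ne h.symm
    have h := Q.out_const hρO hne hb (t := D.a) D.a_spec.1
    rw [hval _ D.a_spec.1, hval _ one_ne_zero, Q.val _ D.a_spec.1, Q.val _ one_ne_zero,
      if_pos D.unit.one, if_neg D.a_spec.2] at h
    exact Q.A_ne h.symm
  have hmul : ∀ g, (χ : G → ℂ) g * (Q.α : G → ℂ) g = (Q.α : G → ℂ) g := fun g =>
    congrFun (congrArg Subtype.val hρα) g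
  set M := Char.kerSubgroup (Char.IsIrr.isCharacter χ.2) with hM
  have hPM : (P : Subgroup G) ≤ M := by
    intro w hw
    obtain ⟨t, rfl⟩ := D.setup.exists_pw D.x_mem D.x_ord hw
    rw [Char.mem_kerSubgroup, h1]
    rw [hf]
    show ((f (D.x ^ t.val) : ℂˣ) : ℂ) = 1
    rw [D.pw_one, hf] at hx
    rw [map_pow, Units.val_pow_eq_pow_val, show ((f D.x : ℂˣ) : ℂ) = 1 from hx, one_pow]
  have hirr := H.res_irr (M := M) inferInstance hPM
  have h2 := Char.classInner_irr_self hirr
  have h3 := Char.classInner_irr_self Q.α.2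
  have hvan : ∀ g, g ∉ M → (Q.α : G → ℂ) g = 0 := by
    intro g hg
    by_contra hne
    refine hg ((Char.mem_kerSubgroup _).2 ?_)
    rw [h1]
    exact (mul_eq_right₀ hne).1 (hmul g)
  rw [classInner, inv_mul_eq_iff_eq_mul₀ Char.card_ne_zero, mul_one] at h2 h3
  have h4 : ∑ g : G, (Q.α : G → ℂ) g * conj ((Q.α : G → ℂ) g) =
      ∑ m : M, (Q.α : G → ℂ) m * conj ((Q.α : G → ℂ) m) := by
    rw [← Finset.sum_subtype (Finset.univ.filter fun g : G => g ∈ M) (fun g => by simp)
      (fun g => (Q.α : G → ℂ) g * conj ((Q.α : G → ℂ) g))]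
    refine (Finset.sum_subset (Finset.filter_subset _ _) fun g _ hg => ?_).symm
    rw [hvan g (fun h => hg (Finset.mem_filter.2 ⟨Finset.mem_univ _, h⟩)), zero_mul]
  rw [h4, h2, Nat.cast_inj] at h3
  have hMtop : M = ⊤ := (Subgroup.card_eq_iff_eq_top M).1 h3
  refine Subtype.ext (funext fun g => ?_)
  have hg : g ∈ M := hMtop ▸ Subgroup.mem_top g
  rw [Char.mem_kerSubgroup, h1] at hg
  rw [hg]
  simp [Blocks.triv]

end Hyp

end Cfsg.Agent.Fg24.HalfDeg
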